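import Groth.Agent.FunFld.K665.MapDiv
import Groth.Agent.FunFld.K666.Conorm

/-! The divisor of a projective map in an extension is the conorm. -/

set_option autoImplicit false

namespace K665.ConormMap

open FunFld K666.Basic K661.Place

variable {k K K' : Type*} [Field k] [Field K] [Field K'] [Algebra k K] [Algebra k K']
  [Algebra K K'] [IsScalarTower k K K'] [FiniteDimensional K K']

theorem conorm_apply (hK : IsFunctionField k K) (D : Divisor k K) {Q : Place k K'}
    {P : Place k K} (h : IsOver Q P) : conorm K' D Q = D P * ramIdx Q P := by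
  classical
  rw [K666.Conorm.conorm_eq, Finsupp.sum, Finsupp.finsetSum_apply]
  have hfin : ∀ P : Place k K, {Q : Place k K' | IsOver Q P}.Finite :=
    fun P => K661.OverFF.finite_over' hK P
  have h1 : ∀ P' ∈ D.support, (D P' • K666.Conorm.cP K' P') Q =
      if P' = P then D P * ramIdx Q P else 0 := by
    intro P' _
    rw [Finsupp.smul_apply, K666.Conorm.cP_apply P' (hfin P'), smul_eq_mul]
    by_cases hP : P' = P
    · subst hP; rw [if_pos rfl]
    · rw [if_neg hP, K666.Conorm.ramIdx_eq_zero, Nat.cast_zero, mul_zero]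
      intro h'
      exact hP (below_unique h' h)
  rw [Finset.sum_congr rfl h1, Finset.sum_ite_eq']
  by_cases hP : P ∈ D.support
  · rw [if_pos hP]
  · rw [if_neg hP, Finsupp.notMem_support_iff.mp hP, zero_mul]

theorem inf'_mul_left {ι : Type*} [Fintype ι] [Nonempty ι] (e : ℕ) (a : ι → ℤ) :
    Finset.univ.inf' Finset.univ_nonempty (fun i => (e : ℤ) * a i) =
      e * Finset.univ.inf' Finset.univ_nonempty a := by
  obtain ⟨j, _, hj⟩ := Finset.exists_mem_eq_inf' (Finset.univ_nonempty (α := ι)) a
  apply le_antisymm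
  · rw [hj]
    exact Finset.inf'_le _ (Finset.mem_univ j)
  · apply Finset.le_inf'
    intro i _
    exact mul_le_mul_of_nonneg_left (Finset.inf'_le _ (Finset.mem_univ i)) (Int.natCast_nonneg e)

theorem main (hK : IsFunctionField k K) (hK' : IsFunctionField k K') {n : ℕ}
    (φ : Fin (n + 1) → K) :
    mapDiv k (fun i => algebraMap K K' (φ i)) = conorm K' (mapDiv k φ) := by
  ext Q
  obtain ⟨P, hP⟩ := exists_below (K := K) Q
  rw [conorm_apply hK _ hP, MapDiv.mapDiv_apply hK, MapDiv.mapDiv_apply hK']
  simp only [ord_algebraMap hP]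
  rw [inf'_mul_left]
  ring

end K665.ConormMap
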