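import Groth.Agent.FunFld.K665.LocRing
import Groth.Agent.FunFld.K660.Places
import Mathlib.RingTheory.NoetherNormalization
import Mathlib.RingTheory.Localization.Integral

/-! The conductor of the local ring of a projective curve in its integral closure. -/

set_option autoImplicit false

namespace K665.FiniteIC

open FunFld K666.Basic K665.LocRing K660.Places

universe u v

variable {k : Type u} {K : Type v} [Field k] [Field K] [Algebra k K]

/-- A finitely generated algebra with fraction field a function field is integral over `k[t]` for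
some transcendental `t`. -/
theorem exists_noether (hK : IsFunctionField k K) (A : Subalgebra k K) (hA : A.FG)
    (hfrac : ∀ z : K, ∃ a ∈ A, ∃ b ∈ A, z = a / b) :
    ∃ t ∈ A, Transcendental k t ∧ ∀ a ∈ A, IsIntegral (Algebra.adjoin k ({t} : Set K)) a := by
  have hft : Algebra.FiniteType k A := A.fg_iff_finiteType.mp hA
  obtain ⟨s, g, hg, hgi⟩ := exists_integral_inj_algHom_of_fg k A
  obtain ⟨⟨x, hx, hfin⟩, hcl⟩ := hK
  -- `s ≤ 1`
  have hxa : AlgebraicIndependent k (fun _ : Unit => x) :=
    (algebraicIndependent_unique_type_iff (ι := Unit) (x := fun _ => x)).mpr hx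
  have hr : ∀ w : K, Set.range (fun _ : Unit => w) = {w} := fun w => by
    ext y; simp [eq_comm]
  have halg : Algebra.IsAlgebraic (IntermediateField.adjoin k ({x} : Set K)) K :=
    Algebra.IsAlgebraic.of_finite _ _
  have halg2 : Algebra.IsAlgebraic (Algebra.adjoin k (Set.range (fun _ : Unit => x))) K := by
    rw [hr]
    exact IntermediateField.isAlgebraic_adjoin_iff_top.mp halg
  have hb : IsTranscendenceBasis k (fun _ : Unit => x) :=
    isTranscendenceBasis_iff_algebraicIndependent_isAlgebraic.mpr ⟨hxa, halg2⟩
  have htr := hb.lift_cardinalMk_eq_trdeg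
  have hind : AlgebraicIndependent k (fun i : Fin s => ((g (MvPolynomial.X i) : A) : K)) := by
    have h1 : AlgebraicIndependent k (fun i : Fin s => g (MvPolynomial.X i)) := by
      have := (MvPolynomial.algebraicIndependent_X (Fin s) k).map' (f := g) hg
      exact this
    exact h1.map' (f := A.val) Subtype.val_injective
  have hs1 : s ≤ 1 := by
    have h1 := hind.lift_cardinalMk_le_trdeg
    simp only [Cardinal.mk_fintype, Fintype.card_fin, Cardinal.lift_natCast] at h1
    simp only [Cardinal.mk_fintype, Fintype.card_unit, Nat.cast_one, Cardinal.lift_one] at htr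
    have h2 : Cardinal.lift.{0} (Algebra.trdeg k K) = 1 := by
      have := htr.symm
      simpa using this
    rw [h2] at h1
    exact_mod_cast h1
  have hs0 : s ≠ 0 := by
    rintro rfl
    -- every element of `A` is integral over `k`
    have hint : ∀ a : A, IsIntegral k a := by
      intro a
      obtain ⟨p, hp, hpa⟩ := hgi a
      have hsurj : Function.Surjective (algebraMap k (MvPolynomial (Fin 0) k)) :=
        MvPolynomial.C_surjective (Fin 0)
      have hgk : (g : MvPolynomial (Fin 0) k →+* A).comp (algebraMap k (MvPolynomial (Fin 0) k)) =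
          algebraMap k A := g.comp_algebraMap
      obtain ⟨q, hq, -, hqm⟩ := Polynomial.lifts_and_natDegree_eq_and_monic
        (f := algebraMap k (MvPolynomial (Fin 0) k)) (p := p)
        ((Polynomial.lifts_iff_coeff_lifts _).mpr fun n => hsurj _) hp
      refine ⟨q, hqm, ?_⟩
      rw [← hgk, ← Polynomial.eval₂_map, hq]
      exact hpa
    obtain ⟨a, ha, b, hb, hab⟩ := hfrac x
    have h1 : IsAlgebraic k a := ((hint ⟨a, ha⟩).map A.val).isAlgebraic
    have h2 : IsAlgebraic k b := ((hint ⟨b, hb⟩).map A.val).isAlgebraic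
    apply hx
    rw [hab, div_eq_mul_inv]
    exact h1.mul h2.inv
  obtain rfl : s = 1 := by omega
  refine ⟨(g (MvPolynomial.X 0) : A), (g (MvPolynomial.X 0)).2, ?_, ?_⟩
  · have := hind.transcendental (0 : Fin 1)
    exact this
  · intro a ha
    obtain ⟨p, hp, hpa⟩ := hgi ⟨a, ha⟩
    -- `g` maps into `k[t]`
    have hrange : ∀ q : MvPolynomial (Fin 1) k,
        ((g q : A) : K) ∈ Algebra.adjoin k ({((g (MvPolynomial.X 0) : A) : K)} : Set K) := by
      intro q
      induction q using MvPolynomial.induction_on with
      | C r =>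
        have : g (MvPolynomial.C r) = algebraMap k A r := g.commutes r
        rw [this]
        exact Subalgebra.algebraMap_mem _ r
      | add p q hp hq => rw [map_add]; exact add_mem hp hq
      | mul_X p i hp =>
        rw [map_mul]
        obtain rfl : i = 0 := Subsingleton.elim _ _
        exact mul_mem hp (Algebra.self_mem_adjoin_singleton k _)
    let g' : MvPolynomial (Fin 1) k →+*
        Algebra.adjoin k ({((g (MvPolynomial.X 0) : A) : K)} : Set K) :=
      ((A.val : A →+* K).comp (g : MvPolynomial (Fin 1) k →+* A)).codRestrict _ hrange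
    refine ⟨p.map g', hp.map _, ?_⟩
    rw [Polynomial.eval₂_map]
    have h1 : (algebraMap (Algebra.adjoin k ({((g (MvPolynomial.X 0) : A) : K)} : Set K)) K).comp g' =
        (A.val : A →+* K).comp (g : MvPolynomial (Fin 1) k →+* A) := rfl
    rw [h1]
    have h2 : (Polynomial.eval₂ (g : MvPolynomial (Fin 1) k →+* A) ⟨a, ha⟩ p) = 0 := hpa
    refine (Polynomial.hom_eval₂ p (g : MvPolynomial (Fin 1) k →+* A) (A.val : A →+* K)
      ⟨a, ha⟩).symm.trans ?_
    rw [h2, map_zero]

/-- The units of `A` at `P`. -/
def unitsAt (A : Subalgebra k K) (P : Place k K) : Submonoid A where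
  carrier := {w | P.1 (w : K) = 1}
  mul_mem' := by
    intro a b ha hb
    change P.1 ((a : K) * (b : K)) = 1
    rw [map_mul]
    change P.1 (a : K) = 1 at ha
    change P.1 (b : K) = 1 at hb
    rw [ha, hb, one_mul]
  one_mem' := by
    change P.1 ((1 : A) : K) = 1
    rw [OneMemClass.coe_one, map_one]

/-- `loc A P` as an `A`-algebra. -/
@[reducible] def algLoc (A : Subalgebra k K) (P : Place k K) : Algebra A (loc A P) :=
  (Subalgebra.inclusion (le_loc A P)).toAlgebra

attribute [local instance] algLoc

theorem isLocalization (A : Subalgebra k K) (P : Place k K) :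
    IsLocalization (unitsAt A P) (loc A P) where
  map_units := by
    rintro ⟨y, hy⟩
    have hy' : P.1 (y : K) = 1 := hy
    have hy0 : (y : K) ≠ 0 := ne_zero_of_val_one P hy'
    refine IsUnit.of_mul_eq_one ⟨(y : K)⁻¹, inv_mem_loc (le_loc A P y.2) hy'⟩ ?_
    apply Subtype.ext
    exact mul_inv_cancel₀ hy0
  surj := by
    rintro ⟨z, u, hu, w, hw, hw1, h⟩
    exact ⟨⟨⟨u, hu⟩, ⟨⟨w, hw⟩, hw1⟩⟩, Subtype.ext h⟩
  exists_of_eq := by
    rintro ⟨x, hx⟩ ⟨y, hy⟩ h
    refine ⟨1, ?_⟩
    have : x = y := congrArg (fun z : loc A P => (z : K)) h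
    subst this
    rfl

theorem isScalarTower (A : Subalgebra k K) (P : Place k K) : IsScalarTower A (loc A P) K :=
  IsScalarTower.of_algebraMap_eq fun _ => rfl

/-- An element integral over the local ring becomes integral over the chart ring after
multiplication with a unit. -/
theorem exists_unit_mul_integral (A : Subalgebra k K) (P : Place k K) (z : K)
    (hz : IsIntegral (loc A P) z) : ∃ w ∈ A, P.1 w = 1 ∧ IsIntegral A (w * z) := by
  have h1 := isLocalization A P
  have h2 := isScalarTower A P
  obtain ⟨⟨w, hw⟩, hwz⟩ :=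
    IsIntegral.exists_multiple_integral_of_isLocalization (unitsAt A P) z hz
  exact ⟨w, w.2, hw, hwz⟩

/-- Existence of a conductor: `d` times the integral closure of the local ring lies in the local
ring. -/
theorem exists_conductor_integral (hK : IsFunctionField k K) (A : Subalgebra k K) (hA : A.FG)
    (hfrac : ∀ z : K, ∃ a ∈ A, ∃ b ∈ A, z = a / b) :
    ∃ d ∈ A, d ≠ 0 ∧ ∀ (P : Place k K) (z : K), IsIntegral (loc A P) z → d * z ∈ loc A P := by
  obtain ⟨t, htA, htr, hint⟩ := exists_noether hK A hA hfrac
  have hgen := isGen_of_transcendental hK htr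
  have hfinB := K660.Ded.finite_integralClosure htr hgen.fin
  obtain ⟨S, hS⟩ := hfinB.fg_top
  have hle : Algebra.adjoin k ({t} : Set K) ≤ A := Algebra.adjoin_le (by simpa using htA)
  -- a common denominator of the generators
  have hden : ∀ T : Finset (integralClosure (Algebra.adjoin k ({t} : Set K)) K),
      ∃ d ∈ A, d ≠ 0 ∧ ∀ b ∈ T, d * (b : K) ∈ A := by
    classical
    intro T
    induction T using Finset.induction_on with
    | empty => exact ⟨1, one_mem _, one_ne_zero, by simp⟩
    | insert b T hb ih =>
      obtain ⟨d, hd, hd0, h⟩ := ih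
      obtain ⟨a, ha, c, hc, hac⟩ := hfrac (b : K)
      by_cases hc0 : c = 0
      · refine ⟨d, hd, hd0, fun b' hb' => ?_⟩
        rcases Finset.mem_insert.mp hb' with rfl | hb'
        · rw [hac, hc0, div_zero, mul_zero]; exact zero_mem _
        · exact h b' hb'
      · refine ⟨d * c, mul_mem hd hc, mul_ne_zero hd0 hc0, fun b' hb' => ?_⟩
        rcases Finset.mem_insert.mp hb' with rfl | hb'
        · rw [hac, mul_assoc, mul_div_cancel₀ _ hc0]; exact mul_mem hd ha
        · rw [mul_right_comm]; exact mul_mem (h b' hb') hc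
  obtain ⟨d, hd, hd0, hdS⟩ := hden S
  have hB : ∀ b : integralClosure (Algebra.adjoin k ({t} : Set K)) K, d * (b : K) ∈ A := by
    intro b
    have hb : b ∈ Submodule.span (Algebra.adjoin k ({t} : Set K))
        (S : Set (integralClosure (Algebra.adjoin k ({t} : Set K)) K)) := by rw [hS]; trivial
    induction hb using Submodule.span_induction with
    | mem x hx => exact hdS x hx
    | zero => rw [ZeroMemClass.coe_zero, mul_zero]; exact zero_mem _
    | add x y _ _ hx hy => rw [AddMemClass.coe_add, mul_add]; exact add_mem hx hy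
    | smul r x _ hx =>
      have e : ((r • x : integralClosure (Algebra.adjoin k ({t} : Set K)) K) : K) =
        (r : K) * (x : K) := rfl
      rw [e, mul_left_comm]
      exact mul_mem (hle r.2) hx
  refine ⟨d, hd, hd0, fun P z hz => ?_⟩
  obtain ⟨w, hw, hw1, hwz⟩ := exists_unit_mul_integral A P z hz
  -- `w z` is integral over `k[t]`
  have hwz' : IsIntegral (Algebra.adjoin k ({t} : Set K)) (w * z) := by
    let _ : Algebra (Algebra.adjoin k ({t} : Set K)) A := (Subalgebra.inclusion hle).toAlgebra
    have : IsScalarTower (Algebra.adjoin k ({t} : Set K)) A K :=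
      IsScalarTower.of_algebraMap_eq fun _ => rfl
    have : Algebra.IsIntegral (Algebra.adjoin k ({t} : Set K)) A := by
      refine ⟨fun a => ?_⟩
      have := hint a a.2
      exact (isIntegral_algHom_iff (IsScalarTower.toAlgHom (Algebra.adjoin k ({t} : Set K)) A K)
        Subtype.val_injective).mp this
    exact isIntegral_trans (w * z) hwz
  have h := hB ⟨w * z, hwz'⟩
  exact ⟨d * (w * z), h, w, hw, hw1, by ring⟩

/-- An element which is integral at all places containing the local ring is integral over it. -/
theorem isIntegral_of_forall_le (hK : IsFunctionField k K) (R : Subalgebra k K) (z : K)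
    (hz : ∀ Q : Place k K, (∀ r ∈ R, Q.1 r ≤ 1) → Q.1 z ≤ 1) : IsIntegral R z := by
  by_contra hcon
  have h1 : z ∉ (integralClosure R K).toSubring := fun h => hcon h
  have h2 : IsIntegrallyClosedIn (integralClosure R K).toSubring K := by
    have : IsIntegrallyClosedIn (integralClosure R K) K := inferInstance
    exact this
  obtain ⟨V, hV, hzV⟩ := Subring.exists_le_valuationSubring_of_isIntegrallyClosedIn h1
  have hRV : ∀ r ∈ R, r ∈ V := fun r hr =>
    hV ((integralClosure R K).algebraMap_mem ⟨r, hr⟩)
  obtain ⟨Q, hQ⟩ := exists_place hK V (by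
    rintro rfl
    exact hzV (ValuationSubring.mem_top _)) (fun a => hRV _ (R.algebraMap_mem a))
  apply hzV
  rw [← hQ]
  apply hz Q
  intro r hr
  have := hRV r hr
  rw [← hQ] at this
  exact this

/-- The conductor of the local rings of an affine curve, in terms of places. -/
theorem exists_conductor (hK : IsFunctionField k K) (A : Subalgebra k K) (hA : A.FG)
    (hfrac : ∀ z : K, ∃ a ∈ A, ∃ b ∈ A, z = a / b) :
    ∃ d ∈ A, d ≠ 0 ∧ ∀ (P : Place k K) (z : K),
      (∀ Q : Place k K, (∀ r ∈ loc A P, Q.1 r ≤ 1) → Q.1 z ≤ 1) → d * z ∈ loc A P := by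
  obtain ⟨d, hd, hd0, h⟩ := exists_conductor_integral hK A hA hfrac
  exact ⟨d, hd, hd0, fun P z hz => h P z (isIntegral_of_forall_le hK _ z hz)⟩

end K665.FiniteIC
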