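import Groth.Agent.FunFld.K661.Place
import Groth.Agent.FunFld.K666.Basic
import Groth.Agent.FunFld.K666.Res
import Mathlib.FieldTheory.Finite.Basic
import Mathlib.FieldTheory.IsAlgClosed.AlgebraicClosure
import Mathlib.FieldTheory.AlgebraicClosure

/-! Places of `k̄ K` fixed by the Frobenius over `k̄`. -/

set_option autoImplicit false

namespace K665.FrobFix

open FunFld K666.Basic

/-- Roots of `X^q - X`. -/
theorem mem_range_of_pow_card {k kb : Type*} [Field k] [Finite k] [Field kb] [Algebra k kb]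
    {c : kb} (hc : c ^ Nat.card k = c) : c ∈ Set.range (algebraMap k kb) := by
  classical
  have := Fintype.ofFinite k
  rw [Nat.card_eq_fintype_card] at hc
  have hne : (Polynomial.X ^ Fintype.card k - Polynomial.X : Polynomial k) ≠ 0 :=
    FiniteField.X_pow_card_sub_X_ne_zero k Fintype.one_lt_card
  have hmonic : (Polynomial.X ^ Fintype.card k - Polynomial.X : Polynomial k).Monic :=
    Polynomial.monic_X_pow_sub (by
      rw [Polynomial.degree_X]
      exact_mod_cast Fintype.one_lt_card)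
  have hsplit : (Polynomial.X ^ Fintype.card k - Polynomial.X : Polynomial k) =
      ∏ a : k, (Polynomial.X - Polynomial.C a) := by
    have h1 : (Polynomial.X ^ Fintype.card k - Polynomial.X : Polynomial k).roots =
        Finset.univ.val := FiniteField.roots_X_pow_card_sub_X k
    have h2 := Polynomial.prod_multiset_X_sub_C_of_monic_of_roots_card_eq hmonic (by
      rw [h1, FiniteField.X_pow_card_sub_X_natDegree_eq k Fintype.one_lt_card]
      rfl)
    rw [← h2, h1]
    rfl
  have h3 : Polynomial.aeval c (Polynomial.X ^ Fintype.card k - Polynomial.X : Polynomial k) = 0 := by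
    simp [hc]
  rw [hsplit, map_prod, Finset.prod_eq_zero_iff] at h3
  obtain ⟨a, -, ha⟩ := h3
  refine ⟨a, ?_⟩
  simp only [map_sub, Polynomial.aeval_X, Polynomial.aeval_C, sub_eq_zero] at ha
  exact ha.symm

variable {k K kb Kb : Type*} [Field k] [Field K] [Algebra k K] [Field kb] [Algebra k kb]
    [Field Kb] [Algebra K Kb] [Algebra kb Kb]

/-- The element `x` of `K` integral at `Q` is congruent to a constant of `k̄`. -/
theorem exists_const_of_mem [IsAlgClosed kb] (hK : IsFunctionField k K)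
    (hc : ∀ c : k, algebraMap K Kb (algebraMap k K c) = algebraMap kb Kb (algebraMap k kb c))
    (Q : Place kb Kb) (P : Place k K)
    (hPQ : ∀ x : K, Q.1 (algebraMap K Kb x) ≤ 1 ↔ P.1 x ≤ 1) (x : K) (hx : P.1 x ≤ 1) :
    ∃ c : kb, Q.1 (algebraMap K Kb x - algebraMap kb Kb c) < 1 := by
  have hlt : ∀ x : K, P.1 x < 1 → Q.1 (algebraMap K Kb x) < 1 := by
    intro y hy
    by_cases hy0 : y = 0
    · rw [hy0, map_zero, map_zero]; exact zero_lt_one
    · by_contra hcon
      have h1 : Q.1 (algebraMap K Kb y⁻¹) ≤ 1 := by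
        rw [map_inv₀, map_inv₀]
        exact inv_le_one_of_one_le₀ (not_lt.mp hcon)
      rw [hPQ, map_inv₀] at h1
      have h2 : P.1 y ≠ 0 := by rw [Ne, map_eq_zero]; exact hy0
      rw [inv_le_one₀ (zero_lt_iff.mpr h2)] at h1
      exact absurd hy (not_lt.mpr h1)
  obtain ⟨p, hp0, hp⟩ := exists_aeval_lt hK P x hx
  have h1 := hlt _ hp
  have h2 : algebraMap K Kb (Polynomial.aeval x p) =
      Polynomial.aeval (algebraMap K Kb x) (p.map (algebraMap k kb)) := by
    rw [Polynomial.aeval_def, Polynomial.aeval_def, Polynomial.hom_eval₂, Polynomial.eval₂_map]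
    congr 1
    ext c
    exact hc c
  rw [h2] at h1
  set p' := p.map (algebraMap k kb) with hp'
  have hp'0 : p' ≠ 0 := (Polynomial.map_ne_zero_iff (algebraMap k kb).injective).mpr hp0
  have hs : p'.Splits := IsAlgClosed.splits p'
  by_contra hcon
  push Not at hcon
  have hQx : Q.1 (algebraMap K Kb x) ≤ 1 := (hPQ x).mpr hx
  have hc1 : ∀ c : kb, Q.1 (algebraMap K Kb x - algebraMap kb Kb c) = 1 := by
    intro c
    apply le_antisymm _ (hcon c)
    exact (Q.1.map_sub _ _).trans (max_le hQx (Q.2.1 c))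
  have : Q.1 (Polynomial.aeval (algebraMap K Kb x) p') = 1 := by
    rw [hs.eq_prod_roots]
    rw [map_mul, Polynomial.aeval_C, map_mul, Place_algebraMap Q _
      (by rw [Ne, Polynomial.leadingCoeff_eq_zero]; exact hp'0), one_mul, map_multiset_prod,
      map_multiset_prod, Multiset.map_map, Multiset.map_map]
    apply Multiset.prod_eq_one
    intro x hx
    obtain ⟨a, _, rfl⟩ := Multiset.mem_map.mp hx
    simp [hc1]
  rw [this] at h1
  exact lt_irrefl _ h1

theorem lt_one_iff_of_le_one_iff {Q : Place kb Kb} {P : Place k K}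
    (hPQ : ∀ x : K, Q.1 (algebraMap K Kb x) ≤ 1 ↔ P.1 x ≤ 1) (x : K) :
    Q.1 (algebraMap K Kb x) < 1 ↔ P.1 x < 1 := by
  by_cases hx : x = 0
  · rw [hx, map_zero, map_zero, map_zero]
  have h1 : P.1 x ≠ 0 := by rw [Ne, map_eq_zero]; exact hx
  have h2 : Q.1 (algebraMap K Kb x) ≠ 0 := by
    rw [Ne, map_eq_zero]; simpa using hx
  have h3 := hPQ x⁻¹
  rw [map_inv₀, map_inv₀, map_inv₀, inv_le_one₀ (zero_lt_iff.mpr h1),
    inv_le_one₀ (zero_lt_iff.mpr h2)] at h3
  rw [← not_le, ← not_le, h3]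

/-- First direction. -/
theorem deg_one_of_fixed [Finite k] [IsAlgClosed kb] (hK : IsFunctionField k K)
    (hc : ∀ c : k, algebraMap K Kb (algebraMap k K c) = algebraMap kb Kb (algebraMap k kb c))
    (F : Kb →+* Kb) (hF1 : ∀ c : kb, F (algebraMap kb Kb c) = algebraMap kb Kb c)
    (hF2 : ∀ x : K, F (algebraMap K Kb x) = algebraMap K Kb x ^ Nat.card k)
    (Q : Place kb Kb) (hQ : ∀ z : Kb, Q.1 (F z) < 1 ↔ Q.1 z < 1) (P : Place k K)
    (hPQ : ∀ x : K, Q.1 (algebraMap K Kb x) ≤ 1 ↔ P.1 x ≤ 1) : P.deg = 1 := by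
  apply K666.Res.deg_eq_one
  intro x hx
  obtain ⟨c, hcx⟩ := exists_const_of_mem hK hc Q P hPQ x hx
  have h1 := (hQ _).mpr hcx
  rw [map_sub, hF1, hF2] at h1
  -- `x^q ≡ c^q`
  have hqpos : 0 < Nat.card k := Nat.card_pos
  have hQx : Q.1 (algebraMap K Kb x) ≤ 1 := (hPQ x).mpr hx
  have h2 : Q.1 (algebraMap K Kb x ^ Nat.card k - algebraMap kb Kb c ^ Nat.card k) < 1 := by
    obtain ⟨w, hw⟩ := sub_dvd_pow_sub_pow
      (⟨algebraMap K Kb x, hQx⟩ : Q.O) ⟨algebraMap kb Kb c, Q.2.1 c⟩ (Nat.card k)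
    have hw' : algebraMap K Kb x ^ Nat.card k - algebraMap kb Kb c ^ Nat.card k =
        (algebraMap K Kb x - algebraMap kb Kb c) * (w : Kb) := congrArg Subtype.val hw
    rw [hw', map_mul]
    exact mul_lt_one_of_nonneg_of_lt_one_left zero_le hcx w.2
  have h3 : Q.1 (algebraMap kb Kb (c ^ Nat.card k - c)) < 1 := by
    have e : algebraMap kb Kb (c ^ Nat.card k - c) =
        (algebraMap K Kb x ^ Nat.card k - algebraMap kb Kb c) -
        (algebraMap K Kb x ^ Nat.card k - algebraMap kb Kb c ^ Nat.card k) := by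
      rw [map_sub, map_pow]; ring
    rw [e]
    exact Q.1.map_sub_lt h1 h2
  have h4 : c ^ Nat.card k - c = 0 := by
    by_contra hne
    rw [Place_algebraMap Q _ hne] at h3
    exact lt_irrefl _ h3
  obtain ⟨c₀, rfl⟩ := mem_range_of_pow_card (sub_eq_zero.mp h4)
  refine ⟨c₀, ?_⟩
  rw [← lt_one_iff_of_le_one_iff hPQ, map_sub, hc]
  exact hcx

/-- For a place of degree one every integral element is congruent to a constant. -/
theorem exists_const_of_deg_one (P : Place k K) (hP : P.deg = 1) (x : K) (hx : P.1 x ≤ 1) :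
    ∃ c : k, P.1 (x - algebraMap k K c) < 1 := by
  have hP' : Module.finrank k (IsLocalRing.ResidueField P.O) = 1 := hP
  obtain ⟨v, hv0, hv⟩ := finrank_eq_one_iff'.mp hP'
  obtain ⟨a, ha⟩ := hv 1
  obtain ⟨b, hb⟩ := hv (IsLocalRing.residue P.O ⟨x, hx⟩)
  have ha0 : a ≠ 0 := by
    rintro rfl
    have : (0 : IsLocalRing.ResidueField P.O) = 1 := by
      rw [← ha]
      exact (zero_smul k v).symm
    exact zero_ne_one this
  refine ⟨b * a⁻¹, ?_⟩
  have h1 : IsLocalRing.residue P.O ⟨x, hx⟩ =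
      algebraMap k (IsLocalRing.ResidueField P.O) (b * a⁻¹) := by
    rw [← hb]
    have ha1 : algebraMap k (IsLocalRing.ResidueField P.O) a * v = 1 :=
      (Algebra.smul_def a v).symm.trans ha
    have ha' : v = algebraMap k (IsLocalRing.ResidueField P.O) a⁻¹ := by
      rw [map_inv₀]
      exact eq_inv_of_mul_eq_one_right ha1
    refine (Algebra.smul_def b v).trans ?_
    rw [ha', map_mul]
  rw [K666.Res.algebraMap_res, K666.Res.residue_eq] at h1
  exact h1

section back

variable (F : Kb →+* Kb) (Q : Place kb Kb) (P : Place k K)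

/-- The subalgebra `k̄ · O_P`. -/
noncomputable def R0 (P : Place k K) : Subalgebra kb Kb :=
  Algebra.adjoin kb (algebraMap K Kb '' {x | P.1 x ≤ 1})

theorem step (hc : ∀ c : k, algebraMap K Kb (algebraMap k K c) = algebraMap kb Kb (algebraMap k kb c))
    (hP : P.deg = 1) (t : K) (ht : P.1 t = WithZero.exp (-1 : ℤ)) (z : Kb)
    (hz : z ∈ R0 (kb := kb) (Kb := Kb) P) :
    ∃ c : kb, ∃ z' ∈ R0 (kb := kb) (Kb := Kb) P,
      z = algebraMap kb Kb c + algebraMap K Kb t * z' := by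
  have ht0 : t ≠ 0 := by
    rintro rfl
    rw [map_zero] at ht
    exact WithZero.exp_ne_zero ht.symm
  have htR : algebraMap K Kb t ∈ R0 (kb := kb) (Kb := Kb) P := by
    refine Algebra.subset_adjoin ⟨t, ?_, rfl⟩
    change P.1 t ≤ 1
    rw [ht, ← WithZero.exp_zero, WithZero.exp_le_exp]
    norm_num
  induction hz using Algebra.adjoin_induction with
  | mem y hy =>
    obtain ⟨x, hx, rfl⟩ := hy
    obtain ⟨c, hcx⟩ := exists_const_of_deg_one P hP x hx
    refine ⟨algebraMap k kb c, algebraMap K Kb ((x - algebraMap k K c) / t), ?_, ?_⟩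
    · refine Algebra.subset_adjoin ⟨_, ?_, rfl⟩
      change P.1 _ ≤ 1
      rw [map_div₀, ht]
      exact div_le_one_of_le₀ (K661.Place.val_lt_one_iff_le P _ |>.mp hcx) zero_le
    · rw [← map_mul, mul_div_cancel₀ _ ht0, ← hc, ← map_add]
      congr 1
      ring
  | algebraMap r => exact ⟨r, 0, zero_mem _, by rw [mul_zero, add_zero]⟩
  | add a b _ _ ha hb =>
    obtain ⟨c, a', ha', rfl⟩ := ha
    obtain ⟨d, b', hb', rfl⟩ := hb
    exact ⟨c + d, a' + b', add_mem ha' hb', by rw [map_add]; ring⟩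
  | mul a b _ _ ha hb =>
    obtain ⟨c, a', ha', rfl⟩ := ha
    obtain ⟨d, b', hb', rfl⟩ := hb
    refine ⟨c * d, algebraMap kb Kb c * b' + a' * algebraMap kb Kb d +
      algebraMap K Kb t * (a' * b'), ?_, by rw [map_mul]; ring⟩
    exact add_mem (add_mem (mul_mem (Subalgebra.algebraMap_mem _ _) hb')
      (mul_mem ha' (Subalgebra.algebraMap_mem _ _))) (mul_mem htR (mul_mem ha' hb'))

variable {Q P}

theorem R0_le (hPQ : ∀ x : K, Q.1 (algebraMap K Kb x) ≤ 1 ↔ P.1 x ≤ 1) (z : Kb)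
    (hz : z ∈ R0 (kb := kb) (Kb := Kb) P) : Q.1 z ≤ 1 := by
  induction hz using Algebra.adjoin_induction with
  | mem y hy => obtain ⟨x, hx, rfl⟩ := hy; exact (hPQ x).mpr hx
  | algebraMap r => exact Q.2.1 r
  | add a b _ _ iha ihb => exact (Q.1.map_add _ _).trans (max_le iha ihb)
  | mul a b _ _ iha ihb => rw [map_mul]; exact mul_le_one' iha ihb

variable {F}

theorem F_R0 (hF1 : ∀ c : kb, F (algebraMap kb Kb c) = algebraMap kb Kb c)
    (hF2 : ∀ x : K, F (algebraMap K Kb x) = algebraMap K Kb x ^ Nat.card k) (z : Kb)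
    (hz : z ∈ R0 (kb := kb) (Kb := Kb) P) : F z ∈ R0 (kb := kb) (Kb := Kb) P := by
  induction hz using Algebra.adjoin_induction with
  | mem y hy =>
    obtain ⟨x, hx, rfl⟩ := hy
    rw [hF2]
    have : algebraMap K Kb x ∈ R0 (kb := kb) (Kb := Kb) P := Algebra.subset_adjoin ⟨x, hx, rfl⟩
    exact pow_mem this _
  | algebraMap r => rw [hF1]; exact Subalgebra.algebraMap_mem _ _
  | add a b _ _ iha ihb => rw [map_add]; exact add_mem iha ihb
  | mul a b _ _ iha ihb => rw [map_mul]; exact mul_mem iha ihb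

theorem exists_normal (hc : ∀ c : k, algebraMap K Kb (algebraMap k K c) = algebraMap kb Kb (algebraMap k kb c))
    (hP : P.deg = 1) (hPQ : ∀ x : K, Q.1 (algebraMap K Kb x) ≤ 1 ↔ P.1 x ≤ 1)
    (t : K) (ht : P.1 t = WithZero.exp (-1 : ℤ)) (n : ℕ) :
    ∀ z ∈ R0 (kb := kb) (Kb := Kb) P, WithZero.exp (-(n : ℤ)) ≤ Q.1 z →
    ∃ (m : ℕ) (c : kb), ∃ z' ∈ R0 (kb := kb) (Kb := Kb) P, c ≠ 0 ∧
      z = algebraMap K Kb t ^ m * (algebraMap kb Kb c + algebraMap K Kb t * z') := by
  have htQ : Q.1 (algebraMap K Kb t) < 1 := by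
    rw [lt_one_iff_of_le_one_iff hPQ, ht, ← WithZero.exp_zero, WithZero.exp_lt_exp]
    norm_num
  have htQ' : Q.1 (algebraMap K Kb t) ≤ WithZero.exp (-1 : ℤ) :=
    (K661.Place.val_lt_one_iff_le Q _).mp htQ
  induction n with
  | zero =>
    intro z hz h1
    obtain ⟨c, z', hz', rfl⟩ := step P hc hP t ht z hz
    refine ⟨0, c, z', hz', ?_, by rw [pow_zero, one_mul]⟩
    rintro rfl
    rw [map_zero, zero_add, map_mul, Nat.cast_zero, neg_zero, WithZero.exp_zero] at h1
    have h2 := mul_lt_one_of_nonneg_of_lt_one_left zero_le htQ (R0_le hPQ z' hz')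
    exact absurd h2 (not_lt.mpr h1)
  | succ n ih =>
    intro z hz h1
    obtain ⟨c, z', hz', rfl⟩ := step P hc hP t ht z hz
    by_cases hc0 : c = 0
    · subst hc0
      rw [map_zero, zero_add, map_mul] at h1
      have h2 : WithZero.exp (-(n : ℤ)) ≤ Q.1 z' := by
        have h3 : WithZero.exp (-((n + 1 : ℕ) : ℤ)) ≤ WithZero.exp (-1 : ℤ) * Q.1 z' :=
          h1.trans (mul_le_mul' htQ' le_rfl)
        have h4 : WithZero.exp (-(n : ℤ)) = WithZero.exp (1 : ℤ) * WithZero.exp (-((n + 1 : ℕ) : ℤ)) := by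
          rw [← WithZero.exp_add]
          congr 1
          push_cast
          ring
        have h5 : Q.1 z' = WithZero.exp (1 : ℤ) * (WithZero.exp (-1 : ℤ) * Q.1 z') := by
          rw [← mul_assoc, ← WithZero.exp_add]
          simp
        rw [h4, h5]
        exact mul_le_mul' le_rfl h3
      obtain ⟨m, c, w, hw, hc0, e⟩ := ih z' hz' h2
      refine ⟨m + 1, c, w, hw, hc0, ?_⟩
      rw [e, map_zero, zero_add]
      ring
    · exact ⟨0, c, z', hz', hc0, by rw [pow_zero, one_mul]⟩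

theorem exists_val [Finite k] (hc : ∀ c : k, algebraMap K Kb (algebraMap k K c) = algebraMap kb Kb (algebraMap k kb c))
    (hgen : Algebra.adjoin K (Set.range (algebraMap kb Kb)) = ⊤)
    (hF1 : ∀ c : kb, F (algebraMap kb Kb c) = algebraMap kb Kb c)
    (hF2 : ∀ x : K, F (algebraMap K Kb x) = algebraMap K Kb x ^ Nat.card k)
    (hP : P.deg = 1) (hPQ : ∀ x : K, Q.1 (algebraMap K Kb x) ≤ 1 ↔ P.1 x ≤ 1)
    (t : K) (ht : P.1 t = WithZero.exp (-1 : ℤ)) (z : Kb) (hz : z ≠ 0) :
    ∃ e : ℤ, Q.1 z = Q.1 (algebraMap K Kb t) ^ e ∧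
      Q.1 (F z) = (Q.1 (algebraMap K Kb t) ^ e) ^ Nat.card k := by
  have ht0 : t ≠ 0 := by
    rintro rfl
    rw [map_zero] at ht
    exact WithZero.exp_ne_zero ht.symm
  have htK0 : algebraMap K Kb t ≠ 0 := by simpa using ht0
  have htR : algebraMap K Kb t ∈ R0 (kb := kb) (Kb := Kb) P := by
    refine Algebra.subset_adjoin ⟨t, ?_, rfl⟩
    change P.1 t ≤ 1
    rw [ht, ← WithZero.exp_zero, WithZero.exp_le_exp]
    norm_num
  have htQ : Q.1 (algebraMap K Kb t) < 1 := by
    rw [lt_one_iff_of_le_one_iff hPQ, ht, ← WithZero.exp_zero, WithZero.exp_lt_exp]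
    norm_num
  have hQt0 : Q.1 (algebraMap K Kb t) ≠ 0 := by rw [Ne, map_eq_zero]; exact htK0
  -- a power of `t` brings `z` in `R0`
  have hN : ∀ w : Kb, ∃ N : ℕ, w * algebraMap K Kb t ^ N ∈ R0 (kb := kb) (Kb := Kb) P := by
    intro w
    have hw : w ∈ Algebra.adjoin K (Set.range (algebraMap kb Kb)) := by rw [hgen]; trivial
    induction hw using Algebra.adjoin_induction with
    | mem y hy =>
      obtain ⟨c, rfl⟩ := hy
      exact ⟨0, by rw [pow_zero, mul_one]; exact Subalgebra.algebraMap_mem _ _⟩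
    | algebraMap r =>
      refine ⟨(WithZero.log (P.1 r)).toNat, ?_⟩
      rw [← map_pow, ← map_mul]
      refine Algebra.subset_adjoin ⟨_, ?_, rfl⟩
      change P.1 _ ≤ 1
      by_cases hr : r = 0
      · rw [hr, zero_mul, map_zero]; exact zero_le
      · have hr' : P.1 r ≠ 0 := by rw [Ne, map_eq_zero]; exact hr
        rw [map_mul, map_pow, ht, ← WithZero.exp_nsmul]
        refine le_of_le_of_eq ?_ WithZero.exp_zero
        refine le_trans (le_of_eq (congrArg (fun y => y * WithZero.exp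
          ((WithZero.log (P.1 r)).toNat • (-1 : ℤ))) (WithZero.exp_log hr').symm)) ?_
        rw [← WithZero.exp_add, WithZero.exp_le_exp]
        simp only [smul_neg, nsmul_eq_mul, mul_one]
        omega
    | add a b _ _ ha hb =>
      obtain ⟨m, hm⟩ := ha
      obtain ⟨n, hn⟩ := hb
      refine ⟨m + n, ?_⟩
      have : (a + b) * algebraMap K Kb t ^ (m + n) =
          a * algebraMap K Kb t ^ m * algebraMap K Kb t ^ n +
          b * algebraMap K Kb t ^ n * algebraMap K Kb t ^ m := by ring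
      rw [this]
      exact add_mem (mul_mem hm (pow_mem htR n)) (mul_mem hn (pow_mem htR m))
    | mul a b _ _ ha hb =>
      obtain ⟨m, hm⟩ := ha
      obtain ⟨n, hn⟩ := hb
      refine ⟨m + n, ?_⟩
      have : (a * b) * algebraMap K Kb t ^ (m + n) =
          (a * algebraMap K Kb t ^ m) * (b * algebraMap K Kb t ^ n) := by ring
      rw [this]
      exact mul_mem hm hn
  obtain ⟨N, hNz⟩ := hN z
  set w := z * algebraMap K Kb t ^ N with hw
  have hw0 : w ≠ 0 := mul_ne_zero hz (pow_ne_zero _ htK0)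
  have hQw0 : Q.1 w ≠ 0 := by rw [Ne, map_eq_zero]; exact hw0
  obtain ⟨m, c, z', hz', hc0, e⟩ := exists_normal hc hP hPQ t ht (-WithZero.log (Q.1 w)).toNat w hNz (by
    conv_rhs => rw [← WithZero.exp_log hQw0]
    rw [WithZero.exp_le_exp]
    omega)
  have hunit : ∀ y : Kb, Q.1 y ≤ 1 → ∀ s : Kb, Q.1 s < 1 →
      Q.1 (algebraMap kb Kb c + s * y) = 1 := by
    intro y hy s hs
    have h1 : Q.1 (algebraMap kb Kb c) = 1 := Place_algebraMap Q c hc0
    have h2 : Q.1 (s * y) < 1 := by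
      rw [map_mul]
      exact mul_lt_one_of_nonneg_of_lt_one_left zero_le hs hy
    rw [Valuation.map_add_eq_of_lt_left, h1]
    rw [h1]
    exact h2
  have hz'' : Q.1 z' ≤ 1 := R0_le hPQ z' hz'
  have hFz' : Q.1 (F z') ≤ 1 := R0_le hPQ _ (F_R0 hF1 hF2 z' hz')
  have hzw : z = algebraMap K Kb t ^ ((m : ℤ) - N) *
      (algebraMap kb Kb c + algebraMap K Kb t * z') := by
    have : z = w * (algebraMap K Kb t ^ N)⁻¹ := by
      rw [hw, mul_assoc, mul_inv_cancel₀ (pow_ne_zero _ htK0), mul_one]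
    rw [this, e, zpow_sub₀ htK0, zpow_natCast, zpow_natCast]
    ring
  refine ⟨(m : ℤ) - N, ?_, ?_⟩
  · conv_lhs => rw [hzw]
    rw [map_mul, map_zpow₀, hunit z' hz'' _ htQ, mul_one]
  · have hFz : F z = (algebraMap K Kb t ^ Nat.card k) ^ ((m : ℤ) - N) *
        (algebraMap kb Kb c + algebraMap K Kb t ^ Nat.card k * F z') := by
      conv_lhs => rw [hzw]
      rw [map_mul, map_zpow₀, hF2, map_add, map_mul F, hF1, hF2]
    rw [hFz, map_mul, map_zpow₀, map_pow]
    have hq : Q.1 (algebraMap K Kb t ^ Nat.card k) < 1 := by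
      rw [map_pow]
      exact pow_lt_one₀ zero_le htQ Nat.card_pos.ne'
    rw [hunit _ hFz' _ hq, mul_one]
    rw [← zpow_natCast, ← zpow_natCast, ← zpow_mul, ← zpow_mul, mul_comm]

end back

theorem main [Finite k] [IsAlgClosure k kb] (hK : FunFld.IsFunctionField k K)
    (hc : ∀ c : k, algebraMap K Kb (algebraMap k K c) = algebraMap kb Kb (algebraMap k kb c))
    (hgen : Algebra.adjoin K (Set.range (algebraMap kb Kb)) = ⊤)
    (F : Kb →+* Kb) (hF1 : ∀ c : kb, F (algebraMap kb Kb c) = algebraMap kb Kb c)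
    (hF2 : ∀ x : K, F (algebraMap K Kb x) = algebraMap K Kb x ^ Nat.card k)
    (Q : FunFld.Place kb Kb) :
    (∀ z : Kb, Q.1 (F z) < 1 ↔ Q.1 z < 1) ↔
      ∃ P : FunFld.Place k K, (∀ x : K, Q.1 (algebraMap K Kb x) ≤ 1 ↔ P.1 x ≤ 1) ∧ P.deg = 1 := by
  have hac : IsAlgClosed kb := IsAlgClosure.isAlgClosed k
  have halg : Algebra.IsAlgebraic k kb := IsAlgClosure.isAlgebraic
  constructor
  · intro hQ
    -- the place below
    let _ : Algebra k Kb := ((algebraMap K Kb).comp (algebraMap k K)).toAlgebra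
    have hst : IsScalarTower k K Kb := IsScalarTower.of_algebraMap_eq fun _ => rfl
    have hst2 : IsScalarTower k kb Kb := IsScalarTower.of_algebraMap_eq fun c => hc c
    have hint : Algebra.IsAlgebraic K Kb := by
      have h1 : Algebra.IsIntegral K Kb := by
        refine ⟨fun z => ?_⟩
        have hz : z ∈ Algebra.adjoin K (Set.range (algebraMap kb Kb)) := by rw [hgen]; trivial
        have hle : Algebra.adjoin K (Set.range (algebraMap kb Kb)) ≤ integralClosure K Kb := by
          apply Algebra.adjoin_le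
          rintro _ ⟨c, rfl⟩
          have h2 : IsIntegral k c := (halg.isAlgebraic c).isIntegral
          have h3 : IsIntegral k (algebraMap kb Kb c) := h2.algebraMap
          exact h3.tower_top
        exact hle hz
      exact h1.isAlgebraic
    let Q' : Place k Kb := ⟨Q.1, fun c => by
      rw [IsScalarTower.algebraMap_apply k kb Kb]
      exact Q.2.1 _, Q.2.2⟩
    obtain ⟨P, hP⟩ := K661.Place.exists_below (K := K) Q'
    have hPQ : ∀ x : K, Q.1 (algebraMap K Kb x) ≤ 1 ↔ P.1 x ≤ 1 := fun x =>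
      K661.Place.val_algebraMap_le_one_iff hP x
    exact ⟨P, hPQ, deg_one_of_fixed hK hc F hF1 hF2 Q hQ P hPQ⟩
  · rintro ⟨P, hPQ, hdeg⟩ z
    obtain ⟨t, ht⟩ := P.2.2 (WithZero.exp (-1 : ℤ))
    by_cases hz : z = 0
    · rw [hz, map_zero]
    · obtain ⟨e, h1, h2⟩ := exists_val hc hgen hF1 hF2 hdeg hPQ t ht z hz
      have hq : Nat.card k ≠ 0 := Nat.card_pos.ne'
      rw [h1, h2]
      exact pow_lt_one_iff hq

end K665.FrobFix
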