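import Groth.Agent.FunFld.K660.Compare

/-! Counting gap numbers. -/

set_option autoImplicit false

namespace K665.GapCount

open FunFld

universe u v

variable {k : Type u} {K : Type v} [Field k] [Field K] [Algebra k K]

theorem single_le (P : Place k K) {m n : ℤ} (h : m ≤ n) :
    (Finsupp.single P m : Divisor k K) ≤ Finsupp.single P n := by
  classical
  intro Q
  rw [Finsupp.single_apply, Finsupp.single_apply]
  split_ifs
  · exact h
  · exact le_rfl

/-- The set of gaps up to `N`. -/
def gaps (P : Place k K) (N : ℕ) : Set ℕ :=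
  {m : ℕ | 1 ≤ m ∧ m ≤ N ∧ L (Finsupp.single P (m : ℤ)) = L (Finsupp.single P ((m : ℤ) - 1))}

theorem gaps_finite (P : Place k K) (N : ℕ) : (gaps P N).Finite :=
  (Set.finite_Icc 1 N).subset fun _ h => ⟨h.1, h.2.1⟩

theorem le_gaps_add_ell (hK : IsFunctionField k K) (P : Place k K) (N : ℕ) :
    N + 1 ≤ (gaps P N).ncard + ell (Finsupp.single P (N : ℤ)) := by
  induction N with
  | zero =>
    have : ell (Finsupp.single P ((0 : ℕ) : ℤ) : Divisor k K) = 1 := by
      rw [Nat.cast_zero, Finsupp.single_zero]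
      exact K660.Compare.ell_zero hK
    rw [this]
    omega
  | succ N ih =>
    have hsub : gaps P N ⊆ gaps P (N + 1) := fun m h => ⟨h.1, by have := h.2.1; omega, h.2.2⟩
    have hle : L (Finsupp.single P (N : ℤ)) ≤ L (Finsupp.single P ((N + 1 : ℕ) : ℤ)) :=
      K660.Compare.L_mono (single_le P (by push_cast; omega))
    have hf := K660.Compare.finite_L hK (Finsupp.single P ((N + 1 : ℕ) : ℤ))
    by_cases hgap : L (Finsupp.single P ((N + 1 : ℕ) : ℤ)) =
        L (Finsupp.single P (((N + 1 : ℕ) : ℤ) - 1))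
    · have hmem : N + 1 ∈ gaps P (N + 1) := ⟨by omega, le_rfl, hgap⟩
      have hnm : N + 1 ∉ gaps P N := fun h => by have := h.2.1; omega
      have h1 : (gaps P N).ncard + 1 ≤ (gaps P (N + 1)).ncard := by
        rw [← Set.ncard_insert_of_notMem hnm (gaps_finite P N)]
        exact Set.ncard_le_ncard (Set.insert_subset hmem hsub) (gaps_finite P (N + 1))
      have h2 : ell (Finsupp.single P (N : ℤ)) = ell (Finsupp.single P ((N + 1 : ℕ) : ℤ)) := by
        have e : (N : ℤ) = ((N + 1 : ℕ) : ℤ) - 1 := by push_cast; ring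
        unfold ell
        rw [hgap, ← e]
      omega
    · have h1 : (gaps P N).ncard ≤ (gaps P (N + 1)).ncard :=
        Set.ncard_le_ncard hsub (gaps_finite P (N + 1))
      have h2 : ell (Finsupp.single P (N : ℤ)) < ell (Finsupp.single P ((N + 1 : ℕ) : ℤ)) := by
        apply Submodule.finrank_lt_finrank_of_lt
        refine lt_of_le_of_ne hle ?_
        intro h
        apply hgap
        rw [← h]
        congr 2
        push_cast
        ring
      omega

theorem main (hK : IsFunctionField k K) (P : Place k K) (l : ℕ) (hl : 1 ≤ l)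
    (hell : ell (Finsupp.single P ((2 * l - 1 : ℕ) : ℤ)) ≤ l) :
    l ≤ Set.ncard {m : ℕ | 1 ≤ m ∧ m ≤ 2 * l - 1 ∧
      FunFld.L (Finsupp.single P (m : ℤ)) = FunFld.L (Finsupp.single P ((m : ℤ) - 1))} := by
  have h := le_gaps_add_ell hK P (2 * l - 1)
  unfold gaps at h
  omega

end K665.GapCount
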