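import Mathlib.RingTheory.Polynomial.GaussLemma
import Mathlib.RingTheory.UniqueFactorizationDomain.GCDMonoid
import Mathlib.RingTheory.PrincipalIdealDomain
import Mathlib.RingTheory.MvPolynomial.Homogeneous
import Mathlib.RingTheory.Polynomial.UniqueFactorization
import Mathlib.Algebra.MvPolynomial.Equiv
import Mathlib.RingTheory.Algebraic.Basic
import Mathlib.Logic.Equiv.Fin.Basic

/-! Gauss lemma consequences: relations between two elements. -/

set_option autoImplicit false

namespace K665.Gauss

open Polynomial

/-- An irreducible relation divides every relation, if the coefficient ring has no relation. -/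
theorem dvd_of_ker {D E : Type*} [CommRing D] [IsDomain D] [IsGCDMonoid D] [CommRing E]
    (φ : D[X] →+* E) (hinj : ∀ a : D, φ (C a) = 0 → a = 0) {f g : D[X]}
    (hf : Irreducible f) (hf0 : φ f = 0) (hg : φ g = 0) : f ∣ g := by
  have hdeg : f.natDegree ≠ 0 := by
    intro h
    rw [Polynomial.natDegree_eq_zero] at h
    obtain ⟨a, rfl⟩ := h
    rw [hinj a hf0, C_0] at hf
    exact not_irreducible_zero hf
  have hprim := hf.isPrimitive hdeg
  let L := FractionRing D
  rw [hprim.dvd_iff_fraction_map_dvd_fraction_map L]
  have hirr : Irreducible (f.map (algebraMap D L)) :=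
    hprim.irreducible_iff_irreducible_map_fraction_map.mp hf
  by_contra hnd
  obtain ⟨a, b, hab⟩ := (hirr.coprime_iff_not_dvd).mpr hnd
  obtain ⟨c, hc0, hc⟩ := IsLocalization.integerNormalization_spec (nonZeroDivisors D) a
  obtain ⟨d, hd0, hd⟩ := IsLocalization.integerNormalization_spec (nonZeroDivisors D) b
  set a' := IsLocalization.integerNormalization (nonZeroDivisors D) a
  set b' := IsLocalization.integerNormalization (nonZeroDivisors D) b
  have h1 : C (c * d) = C d * a' * f + C c * b' * g := by
    apply Polynomial.map_injective (algebraMap D L) (IsFractionRing.injective _ _)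
    simp only [Polynomial.map_add, Polynomial.map_mul, map_C, hc, hd]
    rw [Algebra.smul_def, Algebra.smul_def]
    have e1 : (algebraMap D L[X]) c = C (algebraMap D L c) := rfl
    have e2 : (algebraMap D L[X]) d = C (algebraMap D L d) := rfl
    rw [e1, e2, map_mul, C_mul]
    linear_combination (-(C (algebraMap D L c) * C (algebraMap D L d))) * hab
  have h2 : φ (C (c * d)) = 0 := by
    rw [h1, map_add, map_mul, map_mul, map_mul, map_mul, hf0, hg, mul_zero, mul_zero, add_zero]
  have h3 := hinj _ h2
  rcases mul_eq_zero.mp h3 with h | h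
  · rw [h] at hc0; exact zero_notMem_nonZeroDivisors hc0
  · rw [h] at hd0; exact zero_notMem_nonZeroDivisors hd0

/-- The same for polynomials in several variables, with a distinguished variable `i₀`. -/
theorem mv_dvd_of_ker {k E : Type*} [Field k] [CommRing E] {n : ℕ} (i₀ : Fin (n + 1))
    (φ : MvPolynomial (Fin (n + 1)) k →+* E)
    (hinj : ∀ a : MvPolynomial (Fin n) k, φ (MvPolynomial.rename i₀.succAbove a) = 0 → a = 0)
    {f g : MvPolynomial (Fin (n + 1)) k}
    (hf : Irreducible f) (hf0 : φ f = 0) (hg : φ g = 0) : f ∣ g := by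
  let e : MvPolynomial (Fin (n + 1)) k ≃ₐ[k] Polynomial (MvPolynomial (Fin n) k) :=
    (MvPolynomial.renameEquiv k (finSuccEquiv' i₀)).trans (MvPolynomial.optionEquivLeft k (Fin n))
  have he : ∀ a : MvPolynomial (Fin n) k,
      e (MvPolynomial.rename i₀.succAbove a) = C a := by
    intro a
    change MvPolynomial.optionEquivLeft k (Fin n)
      (MvPolynomial.rename (finSuccEquiv' i₀) (MvPolynomial.rename i₀.succAbove a)) = C a
    rw [MvPolynomial.rename_rename]
    have : (finSuccEquiv' i₀ ∘ i₀.succAbove : Fin n → Option (Fin n)) = some := by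
      funext j
      simp
    rw [this, MvPolynomial.optionEquivLeft_apply]
    induction a using MvPolynomial.induction_on with
    | C r => simp
    | add p q hp hq => rw [map_add, map_add, hp, hq, C_add]
    | mul_X p j hp =>
      rw [map_mul, map_mul, hp, MvPolynomial.rename_X, MvPolynomial.aeval_X, C_mul]
      rfl
  let ψ : Polynomial (MvPolynomial (Fin n) k) →+* E := φ.comp (e.symm : _ →+* _)
  have h := dvd_of_ker ψ (f := e f) (g := e g) (by
    intro a ha
    apply hinj
    have : e.symm (C a) = MvPolynomial.rename i₀.succAbove a := by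
      rw [← he a, AlgEquiv.symm_apply_apply]
    rw [← this]
    exact ha) ((MulEquiv.irreducible_iff e).mpr hf)
    (by change φ (e.symm (e f)) = 0; rw [AlgEquiv.symm_apply_apply, hf0])
    (by change φ (e.symm (e g)) = 0; rw [AlgEquiv.symm_apply_apply, hg])
  exact (map_dvd_iff e).mp h

end K665.Gauss
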