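import Groth.Agent.FunFld.K665.MapDiv

/-! Nonsingularity in terms of hyperplanes with intersection multiplicity one. -/

set_option autoImplicit false

namespace K665.Hyper

open FunFld K666.Basic K665.LocRing K665.Unif K660.Places K665.MapDiv

universe u v

variable {k : Type u} {K : Type v} [Field k] [Field K] [Algebra k K]

theorem chart_chart {ι : Type*} (φ : ι → K) {j : ι} (hj0 : φ j ≠ 0) :
    chart (k := k) (fun i => φ i / φ j) j = chart (k := k) φ j := by
  unfold chart
  congr 1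
  ext z
  simp only [div_self hj0, div_one]

/-- The span of the ratios consists of the forms `ℓ(φ)/φⱼ`. -/
theorem exists_form {n : ℕ} (φ : Fin (n + 1) → K) (j : Fin (n + 1)) {t : K}
    (ht : t ∈ Submodule.span k (Set.range fun i => φ i / φ j)) :
    ∃ c : Fin (n + 1) → k, t = (∑ i, c i • φ i) / φ j := by
  obtain ⟨c, hc⟩ := (Submodule.mem_span_range_iff_exists_fun k).mp ht
  refine ⟨c, ?_⟩
  rw [← hc, Finset.sum_div]
  exact Finset.sum_congr rfl fun i _ => (smul_div_assoc _ _ _).symm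

/-- For a nonsingular place there is a linear form of order exactly one. -/
theorem exists_form_of_uniformizer [IsAlgClosed k] (hK : IsFunctionField k K) {n : ℕ}
    (φ : Fin (n + 1) → K) (P : Place k K) {j : Fin (n + 1)} (hj0 : φ j ≠ 0)
    (hj : ∀ i, P.1 (φ i) ≤ P.1 (φ j)) (t : K) (ht : t ∈ loc (chart (k := k) φ j) P)
    (ht1 : P.1 t = WithZero.exp (-1 : ℤ)) :
    ∃ c : Fin (n + 1) → k, P.1 ((∑ i, c i • φ i) / φ j) = WithZero.exp (-1 : ℤ) := by
  have h1 : (1 : K) ∈ Submodule.span k (Set.range fun i => φ i / φ j) :=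
    Submodule.subset_span ⟨j, div_self hj0⟩
  have h2 := (exists_uniformizer_iff hK (fun i => φ i / φ j) P h1
    (fun i => div_le_one φ P hj i)).mp ⟨t, ?_, ht1⟩
  · obtain ⟨s, hs, hs1⟩ := h2
    obtain ⟨c, rfl⟩ := exists_form φ j hs
    exact ⟨c, hs1⟩
  · rw [inLocRing_iff (fun i => φ i / φ j) P (j := j) (by rw [div_self hj0]; exact one_ne_zero)
      (fun i => by rw [div_self hj0, map_one]; exact div_le_one φ P hj i), chart_chart φ hj0]
    exact ht

theorem form_mem_chart {n : ℕ} (φ : Fin (n + 1) → K) (j : Fin (n + 1)) (c : Fin (n + 1) → k) :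
    (∑ i, c i • φ i) / φ j ∈ chart (k := k) φ j := by
  rw [Finset.sum_div]
  refine sum_mem fun i _ => ?_
  rw [smul_div_assoc]
  have : φ i / φ j ∈ chart (k := k) φ j := Algebra.subset_adjoin ⟨i, rfl⟩
  exact Subalgebra.smul_mem _ this _

/-- The multiplicity of a form at a place. -/
theorem mult_eq (hK : IsFunctionField k K) {n : ℕ} (φ : Fin (n + 1) → K) (hφ : ∀ i, φ i ≠ 0)
    (Q : Place k K) {j : Fin (n + 1)} (hj : ∀ i, Q.1 (φ i) ≤ Q.1 (φ j)) (c : Fin (n + 1) → k)
    (hc : ∑ i, c i • φ i ≠ 0) :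
    (mapDiv k φ) Q + Q.ord (∑ i, c i • φ i) = Q.ord ((∑ i, c i • φ i) / φ j) := by
  rw [mapDiv_eq hK φ hφ Q hj, K660.Ord.ord_div Q hc (hφ j)]
  ring

theorem main [IsAlgClosed k] (hK : IsFunctionField k K) {n : ℕ} (hn : 1 ≤ n)
    (φ : Fin (n + 1) → K) (hφ : LinearIndependent k φ)
    (hbir : IntermediateField.adjoin k (Set.range fun i => φ i / φ 0) = ⊤)
    (P : Place k K) :
    IsNonsingularAt φ P ↔ ∃ c : Fin (n + 1) → k, ∑ i, c i • φ i ≠ 0 ∧
      ∑ᶠ Q ∈ {Q : Place k K | SameImage φ P Q},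
        ((mapDiv k φ) Q + Q.ord (∑ i, c i • φ i)) = 1 := by
  classical
  have hφ0 : ∀ i, φ i ≠ 0 := fun i => hφ.ne_zero i
  rw [K665.Nonsing.isNonsingularAt_iff_unique hK φ (hφ0 0) hbir P]
  obtain ⟨j, hj0, hj⟩ := exists_min_entry φ P 0 (hφ0 0)
  have hPP : SameImage φ P P := by
    rw [K666.SameIm.sameImage_iff hK φ hφ0]
    intro z hz
    rw [inLocRing_iff φ P hj0 hj] at hz
    exact ⟨le_one_of_mem_loc (chart_le_one φ P hj) hz, Iff.rfl⟩
  constructor
  · rintro ⟨huniq, t, ht, ht1⟩
    rw [inLocRing_iff φ P hj0 hj] at ht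
    obtain ⟨c, hc⟩ := exists_form_of_uniformizer hK φ P hj0 hj t ht ht1
    have hc0 : ∑ i, c i • φ i ≠ 0 := by
      intro h0
      rw [h0, zero_div, map_zero] at hc
      exact WithZero.exp_ne_zero hc.symm
    refine ⟨c, hc0, ?_⟩
    have hset : {Q : Place k K | SameImage φ P Q} = {P} := by
      ext Q
      simp only [Set.mem_ofPred_eq, Set.mem_singleton_iff]
      constructor
      · intro hQ
        rw [K666.SameIm.sameImage_iff hK φ hφ0] at hQ
        exact huniq Q fun z hz => (hQ z hz).1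
      · rintro rfl
        exact hPP
    rw [hset, finsum_mem_singleton, mult_eq hK φ hφ0 P hj c hc0]
    rw [K660.Ord.ord_eq_of_val P hc]
    norm_num
  · rintro ⟨c, hc0, hsum⟩
    have hfin := finite_fibre hK hn φ hφ P
    rw [finsum_mem_eq_finite_toFinset_sum _ hfin] at hsum
    -- values at the places of the fibre
    have hval : ∀ Q, SameImage φ P Q →
        0 ≤ (mapDiv k φ) Q + Q.ord (∑ i, c i • φ i) ∧
        (0 < (mapDiv k φ) Q + Q.ord (∑ i, c i • φ i) ↔
          0 < (mapDiv k φ) P + P.ord (∑ i, c i • φ i)) := by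
      intro Q hQ
      have hQ2 := hQ
      obtain ⟨j', hj0', hPj', hQj', -⟩ := hQ2
      rw [K666.SameIm.sameImage_iff hK φ hφ0] at hQ
      have hmem := form_mem_chart φ j' c
      have hin : InLocRing φ P ((∑ i, c i • φ i) / φ j') := by
        rw [inLocRing_iff φ P hj0' hPj']
        exact le_loc _ _ hmem
      obtain ⟨h1, h2⟩ := hQ _ hin
      have hne : (∑ i, c i • φ i) / φ j' ≠ 0 := div_ne_zero hc0 hj0'
      rw [mult_eq hK φ hφ0 Q hQj' c hc0, mult_eq hK φ hφ0 P hPj' c hc0]
      rw [K660.Ord.val_le_one_iff Q hne] at h1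
      rw [K660.Ord.val_lt_one_iff Q hne, K660.Ord.val_lt_one_iff P hne] at h2
      exact ⟨h1, h2⟩
    have hPpos : 0 < (mapDiv k φ) P + P.ord (∑ i, c i • φ i) := by
      by_contra hcon
      have h0 : ∀ Q ∈ hfin.toFinset, (mapDiv k φ) Q + Q.ord (∑ i, c i • φ i) = 0 := by
        intro Q hQ
        have hQ' : SameImage φ P Q := by simpa using hQ
        obtain ⟨h1, h2⟩ := hval Q hQ'
        have : ¬ 0 < (mapDiv k φ) Q + Q.ord (∑ i, c i • φ i) := fun h => hcon (h2.mp h)
        omega
      rw [Finset.sum_eq_zero h0] at hsum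
      exact zero_ne_one hsum
    have hpos : ∀ Q ∈ hfin.toFinset, 1 ≤ (mapDiv k φ) Q + Q.ord (∑ i, c i • φ i) := by
      intro Q hQ
      have hQ' : SameImage φ P Q := by simpa using hQ
      have := (hval Q hQ').2.mpr hPpos
      omega
    have hPmem : P ∈ hfin.toFinset := by simpa using hPP
    have hP1 : (mapDiv k φ) P + P.ord (∑ i, c i • φ i) = 1 := by
      apply le_antisymm _ (hpos P hPmem)
      rw [← hsum]
      exact Finset.single_le_sum (f := fun Q => (mapDiv k φ) Q + Q.ord (∑ i, c i • φ i))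
        (fun Q hQ => by have := hpos Q hQ; omega) hPmem
    have huniq : ∀ Q, SameImage φ P Q → Q = P := by
      intro Q hQ
      by_contra hne
      have hQmem : Q ∈ hfin.toFinset := by simpa using hQ
      have h2 : ∑ R ∈ ({P, Q} : Finset (Place k K)),
          ((mapDiv k φ) R + R.ord (∑ i, c i • φ i)) ≤
          ∑ R ∈ hfin.toFinset, ((mapDiv k φ) R + R.ord (∑ i, c i • φ i)) := by
        apply Finset.sum_le_sum_of_subset_of_nonneg
        · intro R hR
          simp only [Finset.mem_insert, Finset.mem_singleton] at hR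
          rcases hR with rfl | rfl
          · exact hPmem
          · exact hQmem
        · intro R hR _
          have := hpos R hR
          omega
      rw [hsum, Finset.sum_pair (Ne.symm hne), hP1] at h2
      have := hpos Q hQmem
      omega
    refine ⟨fun Q hQ => huniq Q (K665.Nonsing.sameImage_of_le hK φ hφ0 P Q hQ),
      (∑ i, c i • φ i) / φ j, ?_, ?_⟩
    · rw [inLocRing_iff φ P hj0 hj]
      exact le_loc _ _ (form_mem_chart φ j c)
    · rw [mult_eq hK φ hφ0 P hj c hc0] at hP1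
      rw [K660.Ord.val_eq_exp P (div_ne_zero hc0 hj0), hP1]

end K665.Hyper
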