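import Groth.Agent.FunFld.K665.TangentBwd
import Mathlib.LinearAlgebra.Matrix.Rank

/-! The Jacobian criterion for projective curves. -/

set_option autoImplicit false

namespace K665.Jacobian

open FunFld K666.Basic K665.LocRing K665.Unif K660.Places K665.PlaneIdeal MvPolynomial K665.Tangent

theorem rank_map_of_bijective {k κ : Type*} [Field k] [Field κ] (e : k →+* κ)
    (he : Function.Bijective e) {r n : ℕ} (J : Matrix (Fin r) (Fin n) k) :
    (J.map e).rank = J.rank := by
  have h1 := (J.mulVecLin).finrank_range_add_finrank_ker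
  have h2 := ((J.map e).mulVecLin).finrank_range_add_finrank_ker
  rw [Module.finrank_fin_fun] at h1 h2
  have hmul : ∀ w : Fin n → k, (J.map e).mulVec (fun i => e (w i)) = fun i => e (J.mulVec w i) := by
    intro w
    funext i
    simp only [Matrix.mulVec, dotProduct, Matrix.map_apply, map_sum, map_mul]
  let E : LinearMap.ker J.mulVecLin ≃+ LinearMap.ker (J.map e).mulVecLin :=
    { toFun := fun w => ⟨fun i => e (w.1 i), by
        have := w.2
        rw [LinearMap.mem_ker, Matrix.mulVecLin_apply] at this ⊢
        rw [hmul, this]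
        funext i
        exact map_zero e⟩
      invFun := fun w => ⟨fun i => (RingEquiv.ofBijective e he).symm (w.1 i), by
        have := w.2
        rw [LinearMap.mem_ker, Matrix.mulVecLin_apply] at this ⊢
        funext i
        apply he.injective
        have h3 := congrFun (hmul (fun i => (RingEquiv.ofBijective e he).symm (w.1 i))) i
        have h4 : (fun i => e ((RingEquiv.ofBijective e he).symm (w.1 i))) = w.1 := by
          funext i
          exact (RingEquiv.ofBijective e he).apply_symm_apply (w.1 i)
        rw [h4, this] at h3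
        rw [Pi.zero_apply, map_zero]
        exact h3.symm⟩
      left_inv := fun w => Subtype.ext (funext fun i =>
        (RingEquiv.ofBijective e he).symm_apply_apply (w.1 i))
      right_inv := fun w => Subtype.ext (funext fun i =>
        (RingEquiv.ofBijective e he).apply_symm_apply (w.1 i))
      map_add' := fun w w' => Subtype.ext (funext fun i => map_add e _ _) }
  have h3 : Module.finrank k (LinearMap.ker J.mulVecLin) =
      Module.finrank κ (LinearMap.ker (J.map e).mulVecLin) := by
    unfold Module.finrank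
    have := lift_rank_eq_of_equiv_equiv (R := k) (R' := κ) (M := LinearMap.ker J.mulVecLin)
      (M' := LinearMap.ker (J.map e).mulVecLin) e E he (by
        intro c m
        apply Subtype.ext
        funext i
        exact map_mul e _ _)
    have h5 := congrArg Cardinal.toNat this
    rwa [Cardinal.toNat_lift, Cardinal.toNat_lift] at h5
  unfold Matrix.rank
  omega

universe u v

variable {k : Type u} {K : Type v} [Field k] [Field K] [Algebra k K]

theorem finrank_T_add_rank {n r : ℕ} (φ : Fin (n + 1) → K) (P : Place k K) (hj0 : φ 0 ≠ 0)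
    (b : Fin (n + 1) → k) (hb : ∀ i, P.1 (φ i / φ 0 - algebraMap k K (b i)) < 1)
    (f : Fin r → MvPolynomial (Fin (n + 1)) k)
    (hgen : Ideal.span (Set.range f) = RingHom.ker (ev (k := k) φ)) :
    (Matrix.of fun (i : Fin r) (l : Fin n) => eval b (pderiv l.succ (f i))).rank +
      Module.finrank k (T φ 0 b) = n := by
  set J : Matrix (Fin r) (Fin n) k := Matrix.of fun i l => eval b (pderiv l.succ (f i)) with hJ
  have h1 := (J.mulVecLin).finrank_range_add_finrank_ker
  rw [Module.finrank_fin_fun] at h1
  have hdv : ∀ (w : Fin (n + 1) → k), w 0 = 0 → ∀ i, dv b w (f i) = J.mulVec (fun l => w l.succ) i := by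
    intro w hw i
    rw [dv_apply, Fin.sum_univ_succ, hw, zero_mul, zero_add]
    simp only [Matrix.mulVec, dotProduct, hJ, Matrix.of_apply]
    exact Finset.sum_congr rfl fun l _ => mul_comm _ _
  let E : T φ 0 b ≃ₗ[k] LinearMap.ker J.mulVecLin :=
    { toFun := fun w => ⟨fun l => w.1 l.succ, by
        have h2 := (mem_T_iff_gen φ P hj0 b hb f hgen w.1).mp w.2
        rw [LinearMap.mem_ker, Matrix.mulVecLin_apply]
        funext i
        rw [← hdv w.1 h2.1 i, h2.2 i]
        rfl⟩
      invFun := fun w => ⟨Fin.cons 0 w.1, by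
        rw [mem_T_iff_gen φ P hj0 b hb f hgen]
        have h2 := w.2
        rw [LinearMap.mem_ker, Matrix.mulVecLin_apply] at h2
        have h0 : (Fin.cons 0 w.1 : Fin (n + 1) → k) 0 = 0 := rfl
        refine ⟨h0, fun i => ?_⟩
        rw [hdv _ h0 i]
        exact congrFun h2 i⟩
      left_inv := fun w => by
        apply Subtype.ext
        funext i
        refine Fin.cases ?_ (fun l => rfl) i
        exact w.2.1.symm
      right_inv := fun w => Subtype.ext (funext fun l => rfl)
      map_add' := fun w w' => rfl
      map_smul' := fun c w => rfl }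
  rw [E.finrank_eq]
  exact h1

/-- S11071 -/
theorem jacobian [IsAlgClosed k] (hK : IsFunctionField k K) {n : ℕ} (hn : 1 ≤ n)
    (φ : Fin (n + 1) → K) (h0 : φ 0 ≠ 0)
    (hbir : IntermediateField.adjoin k (Set.range fun i => φ i / φ 0) = ⊤)
    (P : Place k K) (hP : ∀ i, P.1 (φ i) ≤ P.1 (φ 0)) {r : ℕ}
    (f : Fin r → MvPolynomial (Fin (n + 1)) k)
    (hgen : Ideal.span (Set.range f) = RingHom.ker (ev (k := k) φ))
    (M : Matrix (Fin r) (Fin n) P.O)
    (hM : ∀ i j, ((M i j : P.O) : K) =
      MvPolynomial.aeval (fun l => φ l / φ 0) (MvPolynomial.pderiv j.succ (f i))) :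
    IsNonsingularAt φ P ↔ (M.map (IsLocalRing.residue P.O)).rank = n - 1 := by
  have hex : ∀ i, ∃ c : k, P.1 (φ i / φ 0 - algebraMap k K c) < 1 := fun i =>
    exists_const hK P _ (div_le_one φ P hP i)
  choose b hb using hex
  rw [TangentBwd.isNonsingularAt_iff_finrank_T hK φ P h0 hbir hP b hb]
  set J : Matrix (Fin r) (Fin n) k := Matrix.of fun i l => eval b (pderiv l.succ (f i)) with hJ
  have hmap : M.map (IsLocalRing.residue P.O) =
      J.map (algebraMap k (IsLocalRing.ResidueField P.O)) := by
    ext i l
    rw [Matrix.map_apply, Matrix.map_apply, Taylor.residue_eq_iff, hM]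
    have hexp1 : (WithZero.exp (-1 : ℤ)) ≤ 1 := by
      rw [← WithZero.exp_zero, WithZero.exp_le_exp]; norm_num
    exact (Taylor.val_sub_eval_le P _ hexp1 (fun i => φ i / φ 0) b
      (fun i => Taylor.le_exp_neg_one (hb i)) _).trans_lt val_uniformizer_lt_one
  have hbij : Function.Bijective (algebraMap k (IsLocalRing.ResidueField P.O)) := by
    refine ⟨Taylor.algebraMap_res_injective P, fun x => ?_⟩
    obtain ⟨x, rfl⟩ := IsLocalRing.residue_surjective x
    obtain ⟨c, -, hc⟩ := Taylor.exists_residue_eq hK P x
    exact ⟨c, hc.symm⟩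
  rw [hmap, rank_map_of_bijective _ hbij]
  have := finrank_T_add_rank φ P h0 b hb f hgen
  rw [← hJ] at this
  omega

theorem ev_eq_zero_iff {n : ℕ} (φ : Fin n → K) (j : Fin n) (hj0 : φ j ≠ 0)
    (g : MvPolynomial (Fin n) k) :
    ev (k := k) φ g = 0 ↔ ev (k := k) (fun i => φ i / φ j) g = 0 := by
  rw [mem_ker_iff, mem_ker_iff]
  refine forall_congr' fun d => ?_
  have h5 := K669.MvPolyDer.aeval_smul_of_isHomogeneous (φ j) (fun i => φ i / φ j)
    (homogeneousComponent_isHomogeneous d g)
  have h6 : (fun i => φ j * (φ i / φ j)) = φ := by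
    funext i; field_simp
  rw [h6] at h5
  rw [h5]
  constructor
  · intro h
    exact (mul_eq_zero.mp h).resolve_left (pow_ne_zero _ hj0)
  · intro h
    rw [h, mul_zero]

/-- The ideal of a plane curve given by an arbitrary birational map. -/
theorem ker_ev_plane (hK : IsFunctionField k K) (φ : Fin 3 → K) (h0 : φ 0 ≠ 0)
    (hbir : IntermediateField.adjoin k (Set.range fun i => φ i / φ 0) = ⊤)
    (f : MvPolynomial (Fin 3) k) (hf : Irreducible f) (hhom : f.IsHomogeneous f.totalDegree)
    (hfφ : MvPolynomial.aeval φ f = 0) :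
    Ideal.span (Set.range fun _ : Fin 1 => f) = RingHom.ker (ev (k := k) φ) := by
  have hvec : (fun i => φ i / φ 0) = ![(1 : K), φ 1 / φ 0, φ 2 / φ 0] := by
    funext i
    fin_cases i
    · exact div_self h0
    · rfl
    · rfl
  have hxy : IntermediateField.adjoin k ({φ 1 / φ 0, φ 2 / φ 0} : Set K) = ⊤ := by
    rw [eq_top_iff, ← hbir, IntermediateField.adjoin_le_iff]
    rintro _ ⟨i, rfl⟩
    fin_cases i
    · change φ 0 / φ 0 ∈ _
      rw [div_self h0]
      exact one_mem _
    · exact IntermediateField.subset_adjoin _ _ (Or.inl rfl)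
    · exact IntermediateField.subset_adjoin _ _ (Or.inr rfl)
  have hf0 : ev (k := k) φ f = 0 := (mem_ker_of_homogeneous φ hhom).mpr hfφ
  rw [Set.range_const]
  apply le_antisymm
  · rw [Ideal.span_singleton_le_iff_mem]
    exact hf0
  · intro g hg
    rw [Ideal.mem_span_singleton]
    have hg' : ev (k := k) φ g = 0 := hg
    rw [ev_eq_zero_iff φ 0 h0, hvec] at hf0 hg'
    exact dvd_of_ev hK hxy hf hf0 hg'

/-- S11072 -/
theorem plane [IsAlgClosed k] (hK : IsFunctionField k K) (φ : Fin 3 → K)
    (hφ0 : ∀ i, φ i ≠ 0)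
    (hbir : IntermediateField.adjoin k (Set.range fun i => φ i / φ 0) = ⊤)
    (f : MvPolynomial (Fin 3) k) (hf : Irreducible f) (hhom : f.IsHomogeneous f.totalDegree)
    (hfφ : MvPolynomial.aeval φ f = 0) (P : Place k K) (j : Fin 3)
    (hj : ∀ i, P.1 (φ i) ≤ P.1 (φ j)) (a : Fin 3 → P.O) (ha : ∀ i, ((a i : P.O) : K) = φ i / φ j) :
    ¬ IsNonsingularAt φ P ↔
      ∀ l : Fin 3, MvPolynomial.aeval (fun i => IsLocalRing.residue P.O (a i))
        (MvPolynomial.pderiv l f) = 0 := by
  classical
  have hex : ∀ i, ∃ c : k, P.1 (φ i / φ j - algebraMap k K c) < 1 := fun i =>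
    exists_const hK P _ (div_le_one φ P hj i)
  choose b hb using hex
  have hj0 := hφ0 j
  rw [TangentBwd.isNonsingularAt_iff_finrank_T hK φ P hj0 hbir hj b hb]
  have hgen := ker_ev_plane hK φ (hφ0 0) hbir f hf hhom hfφ
  have hres : ∀ l, MvPolynomial.aeval (fun i => IsLocalRing.residue P.O (a i)) (pderiv l f) =
      algebraMap k (IsLocalRing.ResidueField P.O) (eval b (pderiv l f)) := fun l =>
    Taylor.aeval_residue_eq P a b (fun i => by rw [ha]; exact hb i) _
  have hres0 : (∀ l : Fin 3, MvPolynomial.aeval (fun i => IsLocalRing.residue P.O (a i))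
        (MvPolynomial.pderiv l f) = 0) ↔ ∀ l, eval b (pderiv l f) = 0 := by
    refine forall_congr' fun l => ?_
    rw [hres, map_eq_zero_iff _ (Taylor.algebraMap_res_injective P)]
  rw [hres0]
  have hbj := b_j φ P hj0 b hb
  -- the value of `f` at `b`
  have hfz : (aeval (fun i => φ i / φ j) f : K) = 0 := by
    have h5 := K669.MvPolyDer.aeval_smul_of_isHomogeneous (φ j) (fun i => φ i / φ j) hhom
    have h6 : (fun i => φ j * (φ i / φ j)) = φ := by
      funext i; field_simp
    rw [h6, hfφ] at h5
    exact (mul_eq_zero.mp h5.symm).resolve_left (pow_ne_zero _ hj0)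
  have hfb : eval b f = 0 := eval_eq_zero_of φ P b hb (by rw [hfz, map_zero]; exact zero_lt_one)
  have heuler : ∑ i, b i * eval b (pderiv i f) = 0 := by
    have := congrArg (eval b) hhom.sum_X_mul_pderiv
    rw [map_sum] at this
    simpa only [map_mul, eval_X, nsmul_eq_mul, hfb, mul_zero, map_natCast] using this
  -- the linear map whose kernel is `T`
  let Bf : (Fin 3 → k) →ₗ[k] k := ∑ i, eval b (pderiv i f) • LinearMap.proj i
  have hBf : ∀ w, Bf w = dv b w f := by
    intro w
    rw [dv_apply]
    simp only [Bf, LinearMap.proj_apply, LinearMap.sum_apply, LinearMap.smul_apply, smul_eq_mul]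
    exact Finset.sum_congr rfl fun i _ => mul_comm _ _
  let A : (Fin 3 → k) →ₗ[k] k × k := (LinearMap.proj j).prod Bf
  have hA : ∀ w, A w = (w j, dv b w f) := by
    intro w
    rw [← hBf]
    rfl
  have hker : LinearMap.ker A = T φ j b := by
    ext w
    rw [LinearMap.mem_ker, hA, mem_T_iff_gen φ P hj0 b hb _ hgen, Prod.mk_eq_zero]
    exact ⟨fun h => ⟨h.1, fun _ => h.2⟩, fun h => ⟨h.1, h.2 0⟩⟩
  have hrn : Module.finrank k (LinearMap.range A) + Module.finrank k (T φ j b) = 3 := by
    rw [← hker]
    exact (A.finrank_range_add_finrank_ker).trans (Module.finrank_fin_fun k)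
  constructor
  · intro hne
    by_contra hcon
    push Not at hcon
    -- some partial derivative with index different from `j` is nonzero
    obtain ⟨l, hlj, hl⟩ : ∃ l, l ≠ j ∧ eval b (pderiv l f) ≠ 0 := by
      by_contra hall
      push Not at hall
      obtain ⟨l, hl⟩ := hcon
      by_cases hlj : l = j
      · subst hlj
        rw [Finset.sum_eq_single l, hbj, one_mul] at heuler
        · exact hl heuler
        · intro i _ hi
          rw [hall i hi, mul_zero]
        · intro h; exact absurd (Finset.mem_univ l) h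
      · exact hl (hall l hlj)
    have hsurj : LinearMap.range A = ⊤ := by
      rw [LinearMap.range_eq_top]
      rintro ⟨α, β⟩
      refine ⟨α • Pi.single j 1 + ((β - α * eval b (pderiv j f)) / eval b (pderiv l f)) •
        Pi.single l 1, ?_⟩
      have hs : ∀ i, A (Pi.single i 1) = ((Pi.single i 1 : Fin 3 → k) j, eval b (pderiv i f)) := by
        intro i
        rw [hA, dv_apply, Finset.sum_eq_single i]
        · rw [Pi.single_eq_same, one_mul]
        · intro i' _ hi'
          rw [Pi.single_eq_of_ne hi', zero_mul]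
        · intro hi; exact absurd (Finset.mem_univ i) hi
      rw [map_add, map_smul, map_smul, hs, hs, Pi.single_eq_same, Pi.single_eq_of_ne (Ne.symm hlj)]
      refine Prod.ext ?_ ?_
      · simp
      · simp only [Prod.smul_mk, smul_eq_mul, Prod.mk_add_mk]
        field_simp
        ring
    have h2 : Module.finrank k (LinearMap.range A) = 2 := by
      rw [hsurj, finrank_top, Module.finrank_prod, Module.finrank_self]
    apply hne
    have h3 : Module.finrank k (T φ j b) = 1 := by omega
    exact h3
  · intro hall hT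
    have hr1 : Module.finrank k (LinearMap.range A) ≤ 1 := by
      have hle : LinearMap.range A ≤ Submodule.span k {((1 : k), (0 : k))} := by
        rintro _ ⟨w, rfl⟩
        rw [hA, dv_apply, Finset.sum_eq_zero (fun i _ => by rw [hall i, mul_zero])]
        exact Submodule.mem_span_singleton.mpr ⟨w j, by simp⟩
      refine (Submodule.finrank_mono hle).trans ?_
      refine (finrank_span_le_card ({((1 : k), (0 : k))} : Set (k × k))).trans ?_
      simp
    have hT' : Module.finrank k (T φ j b) = 1 := hT
    omega

end K665.Jacobian
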