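import Groth.Prelude.Def_W4bk4goldsch45
import Groth.Agent.FunFld.K666.Basic
import Groth.Agent.FunFld.K666.SameIm

/-! The local ring of a projective map at a place, as a subalgebra of the function field. -/

set_option autoImplicit false

namespace K665.LocRing

open FunFld K666.Basic

variable {k K : Type*} [Field k] [Field K] [Algebra k K]

/-- The localization of a subalgebra `A` of `K` at the elements of `A` which are units at `P`. -/
def loc (A : Subalgebra k K) (P : Place k K) : Subalgebra k K where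
  carrier := {z | ∃ u ∈ A, ∃ w ∈ A, P.1 w = 1 ∧ z * w = u}
  mul_mem' := by
    rintro a b ⟨u, hu, w, hw, hw1, h⟩ ⟨u', hu', w', hw', hw1', h'⟩
    exact ⟨u * u', mul_mem hu hu', w * w', mul_mem hw hw', by rw [map_mul, hw1, hw1', one_mul],
      by rw [← h, ← h']; ring⟩
  add_mem' := by
    rintro a b ⟨u, hu, w, hw, hw1, h⟩ ⟨u', hu', w', hw', hw1', h'⟩
    exact ⟨u * w' + u' * w, add_mem (mul_mem hu hw') (mul_mem hu' hw), w * w', mul_mem hw hw',
      by rw [map_mul, hw1, hw1', one_mul], by rw [← h, ← h']; ring⟩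
  algebraMap_mem' r := ⟨_, A.algebraMap_mem r, 1, one_mem _, map_one _, mul_one _⟩

theorem mem_loc {A : Subalgebra k K} {P : Place k K} {z : K} :
    z ∈ loc A P ↔ ∃ u ∈ A, ∃ w ∈ A, P.1 w = 1 ∧ z * w = u := Iff.rfl

theorem ne_zero_of_val_one (P : Place k K) {w : K} (h : P.1 w = 1) : w ≠ 0 := by
  rintro rfl
  rw [map_zero] at h
  exact zero_ne_one h

theorem mem_loc_iff_div {A : Subalgebra k K} {P : Place k K} {z : K} :
    z ∈ loc A P ↔ ∃ u ∈ A, ∃ w ∈ A, P.1 w = 1 ∧ z = u / w := by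
  rw [mem_loc]
  constructor
  · rintro ⟨u, hu, w, hw, hw1, h⟩
    exact ⟨u, hu, w, hw, hw1, by rw [eq_div_iff (ne_zero_of_val_one P hw1)]; exact h⟩
  · rintro ⟨u, hu, w, hw, hw1, h⟩
    exact ⟨u, hu, w, hw, hw1, by rw [h, div_mul_cancel₀ _ (ne_zero_of_val_one P hw1)]⟩

theorem le_loc (A : Subalgebra k K) (P : Place k K) : A ≤ loc A P :=
  fun z hz => ⟨z, hz, 1, one_mem _, map_one _, mul_one _⟩

theorem loc_mono {A B : Subalgebra k K} (P : Place k K) (h : A ≤ B) : loc A P ≤ loc B P := by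
  rintro z ⟨u, hu, w, hw, hw1, e⟩
  exact ⟨u, h hu, w, h hw, hw1, e⟩

theorem inv_mem_loc {A : Subalgebra k K} {P : Place k K} {z : K} (hz : z ∈ loc A P)
    (h1 : P.1 z = 1) : z⁻¹ ∈ loc A P := by
  obtain ⟨u, hu, w, hw, hw1, h⟩ := hz
  have hu1 : P.1 u = 1 := by rw [← h, map_mul, h1, hw1, one_mul]
  refine ⟨w, hw, u, hu, hu1, ?_⟩
  rw [← h, ← mul_assoc, inv_mul_cancel₀ (ne_zero_of_val_one P h1), one_mul]

theorem loc_le_of_le {A B : Subalgebra k K} (P : Place k K) (h : A ≤ loc B P) :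
    loc A P ≤ loc B P := by
  rintro z ⟨u, hu, w, hw, hw1, e⟩
  have hz : z = u * w⁻¹ := by
    rw [← e, mul_assoc, mul_inv_cancel₀ (ne_zero_of_val_one P hw1), mul_one]
  rw [hz]
  exact mul_mem (h hu) (inv_mem_loc (h hw) hw1)

theorem loc_loc (A : Subalgebra k K) (P : Place k K) : loc (loc A P) P = loc A P :=
  le_antisymm (loc_le_of_le P le_rfl) (le_loc _ _)

theorem le_one_of_mem_loc {A : Subalgebra k K} {P : Place k K} (hA : ∀ a ∈ A, P.1 a ≤ 1) {z : K}
    (hz : z ∈ loc A P) : P.1 z ≤ 1 := by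
  obtain ⟨u, hu, w, hw, hw1, h⟩ := hz
  have : P.1 z = P.1 u := by rw [← h, map_mul, hw1, mul_one]
  rw [this]
  exact hA u hu

section chart

variable {ι : Type*}

/-- The affine chart algebra `k[φᵢ/φⱼ]` of a projective map. -/
abbrev chart (φ : ι → K) (j : ι) : Subalgebra k K :=
  Algebra.adjoin k (Set.range fun i => φ i / φ j)

theorem div_le_one (φ : ι → K) (P : Place k K) {j : ι}
    (hj : ∀ i, P.1 (φ i) ≤ P.1 (φ j)) (i : ι) : P.1 (φ i / φ j) ≤ 1 := by
  rw [map_div₀]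
  exact div_le_one_of_le₀ (hj i) zero_le

theorem adjoin_le_one {s : Set K} (P : Place k K) (hs : ∀ a ∈ s, P.1 a ≤ 1) :
    ∀ a ∈ Algebra.adjoin k s, P.1 a ≤ 1 := by
  intro a ha
  induction ha using Algebra.adjoin_induction with
  | mem x hx => exact hs x hx
  | algebraMap r => exact P.2.1 r
  | add a b _ _ iha ihb => exact (P.1.map_add _ _).trans (max_le iha ihb)
  | mul a b _ _ iha ihb => rw [map_mul]; exact mul_le_one' iha ihb

theorem chart_le_one (φ : ι → K) (P : Place k K) {j : ι}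
    (hj : ∀ i, P.1 (φ i) ≤ P.1 (φ j)) : ∀ a ∈ chart (k := k) φ j, P.1 a ≤ 1 := by
  apply adjoin_le_one
  rintro _ ⟨i, rfl⟩
  exact div_le_one φ P hj i

/-- The localized chart algebra does not depend on the chart. -/
theorem loc_chart_le (φ : ι → K) (P : Place k K) {j j' : ι} (hj0 : φ j ≠ 0)
    (hj : ∀ i, P.1 (φ i) ≤ P.1 (φ j)) (hj0' : φ j' ≠ 0) (hj' : ∀ i, P.1 (φ i) ≤ P.1 (φ j')) :
    loc (chart (k := k) φ j) P ≤ loc (chart φ j') P := by
  apply loc_le_of_le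
  apply Algebra.adjoin_le
  rintro _ ⟨i, rfl⟩
  have hP0 : P.1 (φ j') ≠ 0 := by rw [Ne, map_eq_zero]; exact hj0'
  refine ⟨φ i / φ j', Algebra.subset_adjoin ⟨i, rfl⟩, φ j / φ j', Algebra.subset_adjoin ⟨j, rfl⟩,
    ?_, ?_⟩
  · rw [map_div₀, div_eq_one_iff_eq hP0]
    exact le_antisymm (hj' j) (hj j')
  · rw [div_mul_div_cancel₀ hj0]

/-- Membership in the local ring can be tested in any chart containing the point. -/
theorem inLocRing_iff (φ : ι → K) (P : Place k K) {j : ι} (hj0 : φ j ≠ 0)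
    (hj : ∀ i, P.1 (φ i) ≤ P.1 (φ j)) (z : K) :
    InLocRing φ P z ↔ z ∈ loc (chart φ j) P := by
  constructor
  · rintro ⟨j', hj0', hj', hz⟩
    exact loc_chart_le φ P hj0' hj' hj0 hj hz
  · intro hz
    exact ⟨j, hj0, hj, hz⟩

/-- There is an entry of least order. -/
theorem exists_min_entry [Finite ι] [Nonempty ι] (φ : ι → K) (P : Place k K) (i₀ : ι)
    (h0 : φ i₀ ≠ 0) : ∃ j, φ j ≠ 0 ∧ ∀ i, P.1 (φ i) ≤ P.1 (φ j) := by
  cases nonempty_fintype ι
  obtain ⟨j, _, hj⟩ := Finset.exists_max_image Finset.univ (fun i => P.1 (φ i))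
    ⟨i₀, Finset.mem_univ _⟩
  refine ⟨j, ?_, fun i => hj i (Finset.mem_univ _)⟩
  intro h
  have := hj i₀ (Finset.mem_univ _)
  simp only [h, map_zero] at this
  exact h0 ((map_eq_zero _).mp (le_antisymm this zero_le))

theorem isNonsingularAt_iff (φ : ι → K) (P : Place k K) {j : ι} (hj0 : φ j ≠ 0)
    (hj : ∀ i, P.1 (φ i) ≤ P.1 (φ j)) :
    IsNonsingularAt φ P ↔ ∀ z : K, P.1 z ≤ 1 → z ∈ loc (chart φ j) P := by
  unfold IsNonsingularAt
  simp only [inLocRing_iff φ P hj0 hj]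

end chart

end K665.LocRing
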