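import Groth.Agent.FunFld.K665.Nonsing
import Groth.Agent.FunFld.K660.Compare
import Groth.Agent.FunFld.K669.MvPolyDer
import Mathlib.RingTheory.MvPolynomial.Homogeneous

/-! The divisor of a projective map as an honest function; finiteness of fibres and of zeros. -/

set_option autoImplicit false

namespace K665.MapDiv

open FunFld K666.Basic K665.LocRing K665.Unif K660.Places

universe u v

variable {k : Type u} {K : Type v} [Field k] [Field K] [Algebra k K]

/-- the set of zeros and poles of a nonzero element is finite -/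
theorem finite_ord (hK : IsFunctionField k K) (x : K) :
    (Function.support fun P : Place k K => P.ord x).Finite := by
  exact K660.Compare.finite_support_ord hK x

theorem finite_zeros (hK : IsFunctionField k K) {x : K} (hx : x ≠ 0) :
    {P : Place k K | P.1 x < 1}.Finite := by
  refine (finite_ord hK x).subset ?_
  intro P hP
  have h1 : P.1 x < 1 := hP
  rw [K660.Ord.val_lt_one_iff P hx] at h1
  exact ne_of_gt h1

theorem mapDiv_finite (hK : IsFunctionField k K) {ι : Type*} [Fintype ι] [Nonempty ι] (φ : ι → K) :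
    (Function.support fun P : Place k K =>
      -Finset.univ.inf' Finset.univ_nonempty (fun i => P.ord (φ i))).Finite := by
  refine (Set.finite_iUnion fun i => finite_ord hK (φ i)).subset ?_
  intro P hP
  by_contra hcon
  simp only [Set.mem_iUnion, Function.mem_support, not_exists, not_not] at hcon
  apply hP
  simp only [hcon, Finset.inf'_const, neg_zero]

theorem mapDiv_apply (hK : IsFunctionField k K) {ι : Type*} [Fintype ι] [Nonempty ι] (φ : ι → K)
    (P : Place k K) :
    mapDiv k φ P = -Finset.univ.inf' Finset.univ_nonempty (fun i => P.ord (φ i)) := by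
  unfold mapDiv
  rw [dif_pos (mapDiv_finite hK φ)]
  rfl

/-- In terms of an entry of least order. -/
theorem mapDiv_eq (hK : IsFunctionField k K) {ι : Type*} [Fintype ι] [Nonempty ι] (φ : ι → K)
    (hφ : ∀ i, φ i ≠ 0) (P : Place k K) {j : ι} (hj : ∀ i, P.1 (φ i) ≤ P.1 (φ j)) :
    mapDiv k φ P = -P.ord (φ j) := by
  rw [mapDiv_apply hK, neg_inj]
  apply le_antisymm
  · exact Finset.inf'_le _ (Finset.mem_univ j)
  · apply Finset.le_inf'
    intro i _
    have h := hj i
    rw [K660.Ord.val_eq_exp P (hφ i), K660.Ord.val_eq_exp P (hφ j), WithZero.exp_le_exp] at h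
    omega

/-- S11075 (a) -/
theorem finite_zeroPlaces (hK : IsFunctionField k K) {n : ℕ} (φ : Fin (n + 1) → K)
    (g : MvPolynomial (Fin (n + 1)) k) (d : ℕ) (hg : g.IsHomogeneous d)
    (hgφ : MvPolynomial.aeval φ g ≠ 0) :
    {P : Place k K | ∃ j, φ j ≠ 0 ∧ (∀ i, P.1 (φ i) ≤ P.1 (φ j)) ∧
          P.1 (MvPolynomial.aeval (fun i => φ i / φ j) g) < 1}.Finite := by
  have hne : ∀ j, φ j ≠ 0 → MvPolynomial.aeval (fun i => φ i / φ j) g ≠ 0 := by
    intro j hj h0
    apply hgφ
    have h1 : MvPolynomial.aeval (fun i => φ j * (φ i / φ j)) g =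
        φ j ^ d * MvPolynomial.aeval (fun i => φ i / φ j) g :=
      K669.MvPolyDer.aeval_smul_of_isHomogeneous (φ j) (fun i => φ i / φ j) hg
    have h2 : (fun i => φ j * (φ i / φ j)) = φ := by
      funext i; field_simp
    rw [h2, h0, mul_zero] at h1
    exact h1
  refine (Set.finite_iUnion fun j : Fin (n + 1) =>
    (show {P : Place k K | φ j ≠ 0 ∧
      P.1 (MvPolynomial.aeval (fun i => φ i / φ j) g) < 1}.Finite from ?_)).subset ?_
  · by_cases hj : φ j = 0
    · simp [hj]
    · exact (finite_zeros hK (hne j hj)).subset fun P hP => hP.2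
  · rintro P ⟨j, hj0, -, hP⟩
    exact Set.mem_iUnion.mpr ⟨j, hj0, hP⟩

theorem div_not_const {n : ℕ} (φ : Fin (n + 1) → K) (hφ : LinearIndependent k φ)
    {i j : Fin (n + 1)} (hij : i ≠ j) (c : k) : φ i / φ j - algebraMap k K c ≠ 0 := by
  intro h
  rw [sub_eq_zero, div_eq_iff (hφ.ne_zero j), ← Algebra.smul_def] at h
  have hinj : Function.Injective ![i, j] := by
    intro a b hab
    fin_cases a <;> fin_cases b <;> simp_all
  have h2 : LinearIndependent k ![φ i, φ j] := by
    have h3 := hφ.comp _ hinj
    have h4 : φ ∘ ![i, j] = ![φ i, φ j] := by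
      funext a; fin_cases a <;> rfl
    rwa [h4] at h3
  have := (LinearIndependent.pair_iff.mp h2) 1 (-c) (by
    rw [one_smul, neg_smul, h, add_neg_cancel])
  exact one_ne_zero this.1

theorem const_unique (P : Place k K) {z : K} {c d : k} (h1 : P.1 (z - algebraMap k K c) < 1)
    (h2 : P.1 (z - algebraMap k K d) < 1) : c = d := by
  by_contra hne
  have h3 : algebraMap k K (c - d) = (z - algebraMap k K d) - (z - algebraMap k K c) := by
    rw [map_sub]; ring
  have h4 := Place_algebraMap P (c - d) (sub_ne_zero.mpr hne)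
  rw [h3] at h4
  have := P.1.map_sub_lt h2 h1
  rw [h4] at this
  exact lt_irrefl _ this

/-- S11075 (b) -/
theorem finite_fibre (hK : IsFunctionField k K) {n : ℕ} (hn : 1 ≤ n) (φ : Fin (n + 1) → K)
    (hφ : LinearIndependent k φ) (P : Place k K) : {Q : Place k K | SameImage φ P Q}.Finite := by
  have hex : ∀ j : Fin (n + 1), ∃ i : Fin (n + 1), i ≠ j := by
    intro j
    by_cases h : j = 0
    · exact ⟨Fin.last n, by
        rw [h]
        intro h'
        have := congrArg Fin.val h'
        simp at this
        omega⟩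
    · exact ⟨0, fun h' => h h'.symm⟩
  choose i hi using hex
  refine (Set.finite_iUnion fun j : Fin (n + 1) =>
    (show {Q : Place k K | ∃ c : k, P.1 (φ (i j) / φ j - algebraMap k K c) < 1 ∧
      Q.1 (φ (i j) / φ j - algebraMap k K c) < 1}.Finite from ?_)).subset ?_
  · by_cases hc : ∃ c : k, P.1 (φ (i j) / φ j - algebraMap k K c) < 1
    · obtain ⟨c, hc⟩ := hc
      refine (finite_zeros hK (div_not_const φ hφ (hi j) c)).subset ?_
      rintro Q ⟨d, hd1, hd2⟩
      rw [const_unique P hc hd1]
      exact hd2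
    · refine Set.Finite.subset Set.finite_empty ?_
      rintro Q ⟨d, hd1, -⟩
      exact (hc ⟨d, hd1⟩).elim
  · rintro Q ⟨j, -, -, -, h⟩
    exact Set.mem_iUnion.mpr ⟨j, h (i j)⟩

end K665.MapDiv
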