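import Groth.Agent.FunFld.K665.LocRing

/-! Elements congruent to a constant modulo a power of the maximal ideal of a place; local
parameters in the local ring of a projective map. -/

set_option autoImplicit false

namespace K665.Unif

open FunFld K666.Basic K665.LocRing

variable {k K : Type*} [Field k] [Field K] [Algebra k K]

/-- Elements congruent to a constant modulo the ideal `{P ≤ γ}`. -/
def constMod (P : Place k K) (γ : WithZero (Multiplicative ℤ)) (hγ : γ ≤ 1) : Subalgebra k K where
  carrier := {z | ∃ c : k, P.1 (z - algebraMap k K c) ≤ γ}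
  mul_mem' := by
    rintro a b ⟨c, hc⟩ ⟨d, hd⟩
    refine ⟨c * d, ?_⟩
    have hb : P.1 b ≤ 1 := by
      have : b = (b - algebraMap k K d) + algebraMap k K d := by ring
      rw [this]
      exact (P.1.map_add _ _).trans (max_le (hd.trans hγ) (P.2.1 d))
    have : a * b - algebraMap k K (c * d) =
        (a - algebraMap k K c) * b + algebraMap k K c * (b - algebraMap k K d) := by
      rw [map_mul]; ring
    rw [this]
    refine (P.1.map_add _ _).trans (max_le ?_ ?_)
    · rw [map_mul]
      exact (mul_le_mul' hc hb).trans_eq (mul_one _)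
    · rw [map_mul]
      exact (mul_le_mul' (P.2.1 c) hd).trans_eq (one_mul _)
  add_mem' := by
    rintro a b ⟨c, hc⟩ ⟨d, hd⟩
    refine ⟨c + d, ?_⟩
    rw [map_add, add_sub_add_comm]
    exact (P.1.map_add _ _).trans (max_le hc hd)
  algebraMap_mem' r := ⟨r, by simp⟩

theorem mem_constMod {P : Place k K} {γ : WithZero (Multiplicative ℤ)} {hγ : γ ≤ 1} {z : K} :
    z ∈ constMod P γ hγ ↔ ∃ c : k, P.1 (z - algebraMap k K c) ≤ γ := Iff.rfl

theorem inv_mem_constMod {P : Place k K} {γ : WithZero (Multiplicative ℤ)} {hγ : γ ≤ 1} {z : K}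
    (hγ1 : γ < 1) (hz : z ∈ constMod P γ hγ) (h1 : P.1 z = 1) : z⁻¹ ∈ constMod P γ hγ := by
  obtain ⟨c, hc⟩ := hz
  have hc0 : c ≠ 0 := by
    rintro rfl
    rw [map_zero, sub_zero, h1] at hc
    exact absurd hγ1 (not_lt.mpr hc)
  have hcK : algebraMap k K c ≠ 0 := by
    rw [Ne, FaithfulSMul.algebraMap_eq_zero_iff]; exact hc0
  have hz0 : z ≠ 0 := ne_zero_of_val_one P h1
  refine ⟨c⁻¹, ?_⟩
  have : z⁻¹ - algebraMap k K c⁻¹ = -(z - algebraMap k K c) / (z * algebraMap k K c) := by
    rw [map_inv₀]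
    field_simp
    ring
  rw [this, map_div₀, map_mul, h1, Place_algebraMap P c hc0, Valuation.map_neg, mul_one, div_one]
  exact hc

theorem loc_le_constMod {P : Place k K} {γ : WithZero (Multiplicative ℤ)} {hγ : γ ≤ 1}
    (hγ1 : γ < 1) {A : Subalgebra k K} (hA : A ≤ constMod P γ hγ) :
    loc A P ≤ constMod P γ hγ := by
  intro z hz
  obtain ⟨u, hu, w, hw, hw1, e⟩ := mem_loc_iff_div.mp hz
  rw [e, div_eq_mul_inv]
  exact mul_mem (hA hu) (inv_mem_constMod hγ1 (hA hw) hw1)

/-- a discreteness statement -/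
theorem le_exp_neg_two {x : WithZero (Multiplicative ℤ)} (h1 : x < 1)
    (h2 : x ≠ WithZero.exp (-1 : ℤ)) : x ≤ WithZero.exp (-2 : ℤ) := by
  by_cases hx : x = 0
  · rw [hx]; exact zero_le
  · obtain ⟨n, rfl⟩ : ∃ n : ℤ, x = WithZero.exp n := ⟨WithZero.log x, (WithZero.exp_log hx).symm⟩
    rw [← WithZero.exp_zero, WithZero.exp_lt_exp] at h1
    have h3 : n ≠ -1 := fun h => h2 (by rw [h])
    rw [WithZero.exp_le_exp]
    omega

theorem val_uniformizer_lt_one : WithZero.exp (-1 : ℤ) < 1 := by
  rw [← WithZero.exp_zero, WithZero.exp_lt_exp]; norm_num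

/-- For a normalized effective projective map, the entries are in the local ring and some entry is
a unit. -/
theorem exists_entry_one {ι : Type*} [Finite ι] (φ : ι → K) (P : Place k K)
    (heff : (1 : K) ∈ Submodule.span k (Set.range φ)) (hnorm : ∀ i, P.1 (φ i) ≤ 1) :
    ∃ j, P.1 (φ j) = 1 := by
  by_contra hcon
  push Not at hcon
  have h1 : ∀ i, P.1 (φ i) < 1 := fun i => lt_of_le_of_ne (hnorm i) (hcon i)
  have : ∀ z ∈ Submodule.span k (Set.range φ), P.1 z < 1 := by
    intro z hz
    induction hz using Submodule.span_induction with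
    | mem x hx => obtain ⟨i, rfl⟩ := hx; exact h1 i
    | zero => rw [map_zero]; exact zero_lt_one
    | add a b _ _ ha hb => exact P.1.map_add_lt ha hb
    | smul c a _ ha =>
      rw [Algebra.smul_def, map_mul]
      exact mul_lt_one_of_nonneg_of_lt_one_right (P.2.1 c) zero_le ha
  have := this 1 heff
  rw [map_one] at this
  exact lt_irrefl _ this

theorem span_div {ι : Type*} (φ : ι → K) (j : ι) (z : K)
    (hz : z ∈ Submodule.span k (Set.range φ)) : z / φ j ∈ chart (k := k) φ j := by
  induction hz using Submodule.span_induction with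
  | mem x hx => obtain ⟨i, rfl⟩ := hx; exact Algebra.subset_adjoin ⟨i, rfl⟩
  | zero => rw [zero_div]; exact zero_mem _
  | add a b _ _ ha hb => rw [add_div]; exact add_mem ha hb
  | smul c a _ ha => rw [smul_div_assoc]; exact Subalgebra.smul_mem _ ha c

theorem exists_uniformizer_iff [IsAlgClosed k] (hK : FunFld.IsFunctionField k K)
    {ι : Type*} [Finite ι] (φ : ι → K)
    (P : FunFld.Place k K) (heff : (1 : K) ∈ Submodule.span k (Set.range φ))
    (hnorm : ∀ i, P.1 (φ i) ≤ 1) :
    (∃ t : K, FunFld.InLocRing φ P t ∧ P.1 t = WithZero.exp (-1)) ↔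
      ∃ t ∈ Submodule.span k (Set.range φ), P.1 t = WithZero.exp (-1) := by
  obtain ⟨j, hj1⟩ := exists_entry_one φ P heff hnorm
  have hj0 : φ j ≠ 0 := ne_zero_of_val_one P hj1
  have hj : ∀ i, P.1 (φ i) ≤ P.1 (φ j) := fun i => by rw [hj1]; exact hnorm i
  have hle : ∀ z ∈ Submodule.span k (Set.range φ), P.1 z ≤ 1 := by
    intro z hz
    induction hz using Submodule.span_induction with
    | mem x hx => obtain ⟨i, rfl⟩ := hx; exact hnorm i
    | zero => rw [map_zero]; exact zero_le
    | add a b _ _ ha hb => exact (P.1.map_add _ _).trans (max_le ha hb)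
    | smul c a _ ha =>
      rw [Algebra.smul_def, map_mul]
      exact mul_le_one' (P.2.1 c) ha
  constructor
  · rintro ⟨t, ht, ht1⟩
    rw [inLocRing_iff φ P hj0 hj] at ht
    by_contra hcon
    push Not at hcon
    have h2 : WithZero.exp (-2 : ℤ) < 1 := by
      rw [← WithZero.exp_zero, WithZero.exp_lt_exp]; norm_num
    have hW : ∀ z ∈ Submodule.span k (Set.range φ), z ∈ constMod P (WithZero.exp (-2 : ℤ)) h2.le := by
      intro z hz
      obtain ⟨c, hc⟩ := exists_const hK P z (hle z hz)
      refine ⟨c, le_exp_neg_two hc (hcon _ ?_)⟩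
      refine sub_mem hz ?_
      rw [Algebra.algebraMap_eq_smul_one]
      exact Submodule.smul_mem _ _ heff
    have hchart : chart (k := k) φ j ≤ constMod P (WithZero.exp (-2 : ℤ)) h2.le := by
      apply Algebra.adjoin_le
      rintro _ ⟨i, rfl⟩
      change φ i / φ j ∈ _
      rw [div_eq_mul_inv]
      exact mul_mem (hW _ (Submodule.subset_span ⟨i, rfl⟩))
        (inv_mem_constMod h2 (hW _ (Submodule.subset_span ⟨j, rfl⟩)) hj1)
    obtain ⟨c, hc⟩ := loc_le_constMod h2 hchart ht
    have hc0 : c = 0 := by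
      by_contra hne
      have e : algebraMap k K c = t - (t - algebraMap k K c) := by ring
      have := Place_algebraMap P c hne
      rw [e] at this
      have h3 := P.1.map_sub_lt (g := 1) (x := t) (y := t - algebraMap k K c)
        (by rw [ht1]; exact val_uniformizer_lt_one) (hc.trans_lt h2)
      rw [this] at h3
      exact lt_irrefl _ h3
    rw [hc0, map_zero, sub_zero, ht1, WithZero.exp_le_exp] at hc
    norm_num at hc
  · rintro ⟨t, ht, ht1⟩
    refine ⟨t, ?_, ht1⟩
    rw [inLocRing_iff φ P hj0 hj]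
    refine ⟨t / φ j, span_div φ j t ht, 1 / φ j, span_div φ j 1 heff, ?_, ?_⟩
    · rw [map_div₀, map_one, hj1, div_one]
    · rw [mul_one_div]

end K665.Unif
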