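import Groth.Agent.FunFld.K665.FiniteIC
import Groth.Agent.FunFld.K665.Unif

/-! Nonsingularity of a birational projective map at a place. -/

set_option autoImplicit false

namespace K665.Nonsing

open FunFld K666.Basic K665.LocRing K665.Unif K660.Places

universe u v

variable {k : Type u} {K : Type v} [Field k] [Field K] [Algebra k K]

theorem chart_fg {ι : Type*} [Finite ι] (φ : ι → K) (j : ι) : (chart (k := k) φ j).FG :=
  Subalgebra.fg_def.mpr ⟨_, Set.finite_range _, rfl⟩

theorem adjoin_ratio_le {ι : Type*} (φ : ι → K) {i₀ j : ι} (h0 : φ i₀ ≠ 0) :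
    IntermediateField.adjoin k (Set.range fun i => φ i / φ j) ≤
      IntermediateField.adjoin k (Set.range fun i => φ i / φ i₀) := by
  rw [IntermediateField.adjoin_le_iff]
  rintro _ ⟨i, rfl⟩
  have e : φ i / φ j = (φ i / φ i₀) / (φ j / φ i₀) := by
    rw [div_div_div_cancel_right₀ h0]
  change φ i / φ j ∈ IntermediateField.adjoin k (Set.range fun i => φ i / φ i₀)
  rw [e]
  exact div_mem (IntermediateField.subset_adjoin _ _ ⟨i, rfl⟩)
    (IntermediateField.subset_adjoin _ _ ⟨j, rfl⟩)

theorem adjoin_ratio_eq_top {ι : Type*} (φ : ι → K) {i₀ j : ι} (hj : φ j ≠ 0)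
    (hbir : IntermediateField.adjoin k (Set.range fun i => φ i / φ i₀) = ⊤) :
    IntermediateField.adjoin k (Set.range fun i => φ i / φ j) = ⊤ := by
  rw [eq_top_iff, ← hbir]
  exact adjoin_ratio_le φ hj

theorem chart_frac {ι : Type*} (φ : ι → K) {i₀ j : ι} (hj : φ j ≠ 0)
    (hbir : IntermediateField.adjoin k (Set.range fun i => φ i / φ i₀) = ⊤) (z : K) :
    ∃ a ∈ chart (k := k) φ j, ∃ b ∈ chart (k := k) φ j, z = a / b := by
  have : z ∈ IntermediateField.adjoin k (Set.range fun i => φ i / φ j) := by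
    rw [adjoin_ratio_eq_top φ hj hbir]; trivial
  obtain ⟨a, ha, b, hb, h⟩ := IntermediateField.mem_adjoin_iff_div.mp this
  exact ⟨a, ha, b, hb, h⟩

/-- Core criterion: a subalgebra contained in no other valuation ring, containing a local
parameter, with a conductor, is the valuation ring. -/
theorem mem_of_unique_of_uniformizer [IsAlgClosed k] (hK : IsFunctionField k K)
    (A : Subalgebra k K) (hA : A.FG)
    (hfrac : ∀ z : K, ∃ a ∈ A, ∃ b ∈ A, z = a / b) (P : Place k K)
    (huniq : ∀ Q : Place k K, (∀ z ∈ loc A P, Q.1 z ≤ 1) → Q = P)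
    (t : K) (ht : t ∈ loc A P) (ht1 : P.1 t = WithZero.exp (-1 : ℤ)) (z : K) (hz : P.1 z ≤ 1) :
    z ∈ loc A P := by
  obtain ⟨d, hd, hd0, hcond⟩ := FiniteIC.exists_conductor hK A hA hfrac
  have hPd0 : P.1 d ≠ 0 := by rw [Ne, map_eq_zero]; exact hd0
  -- elements of large order are in the local ring
  have hbig : ∀ y : K, P.1 y ≤ P.1 d → y ∈ loc A P := by
    intro y hy
    have := hcond P (y / d) (fun Q hQ => by
      rw [huniq Q hQ, map_div₀]
      exact div_le_one_of_le₀ hy zero_le)
    rwa [mul_div_cancel₀ _ hd0] at this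
  have ht0 : t ≠ 0 := by
    rintro rfl
    rw [map_zero] at ht1
    exact WithZero.exp_ne_zero ht1.symm
  -- approximation
  have happ : ∀ n : ℕ, ∃ r ∈ loc A P, P.1 (z - r) ≤ WithZero.exp (-(n : ℤ)) := by
    intro n
    induction n with
    | zero => exact ⟨0, zero_mem _, by simpa using hz⟩
    | succ n ih =>
      obtain ⟨r, hr, hrz⟩ := ih
      have htn : P.1 (t ^ n) = WithZero.exp (-(n : ℤ)) := by
        rw [map_pow, ht1, ← WithZero.exp_nsmul]
        congr 1
        simp
      have hy : P.1 ((z - r) / t ^ n) ≤ 1 := by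
        rw [map_div₀, htn]
        exact div_le_one_of_le₀ hrz zero_le
      obtain ⟨c, hc⟩ := exists_const hK P _ hy
      refine ⟨r + algebraMap k K c * t ^ n, add_mem hr
        (mul_mem (Subalgebra.algebraMap_mem _ c) (pow_mem ht n)), ?_⟩
      have e : z - (r + algebraMap k K c * t ^ n) =
          t ^ n * ((z - r) / t ^ n - algebraMap k K c) := by
        field_simp
        ring
      rw [e, map_mul, htn]
      have h1 : P.1 ((z - r) / t ^ n - algebraMap k K c) ≤ WithZero.exp (-1 : ℤ) :=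
        (K660.Ord.lt_one_iff_le).mp hc
      refine (mul_le_mul' le_rfl h1).trans_eq ?_
      rw [← WithZero.exp_add]
      congr 1
      push_cast
      ring
  obtain ⟨n, hn⟩ : ∃ n : ℕ, WithZero.exp (-(n : ℤ)) ≤ P.1 d := by
    refine ⟨(-WithZero.log (P.1 d)).toNat, ?_⟩
    rw [← WithZero.exp_log hPd0, WithZero.exp_le_exp, WithZero.log_exp]
    omega
  obtain ⟨r, hr, hrz⟩ := happ n
  have := add_mem (hbig (z - r) (hrz.trans hn)) hr
  rwa [sub_add_cancel] at this

theorem isNonsingularAt_iff_unique [IsAlgClosed k] (hK : IsFunctionField k K) {n : ℕ}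
    (φ : Fin (n + 1) → K) (h0 : φ 0 ≠ 0)
    (hbir : IntermediateField.adjoin k (Set.range fun i => φ i / φ 0) = ⊤) (P : Place k K) :
    IsNonsingularAt φ P ↔
      (∀ Q : Place k K, (∀ z : K, InLocRing φ P z → Q.1 z ≤ 1) → Q = P) ∧
        ∃ t : K, InLocRing φ P t ∧ P.1 t = WithZero.exp (-1) := by
  obtain ⟨j, hj0, hj⟩ := exists_min_entry φ P 0 h0
  rw [isNonsingularAt_iff φ P hj0 hj]
  simp only [inLocRing_iff φ P hj0 hj]
  constructor
  · intro h
    refine ⟨fun Q hQ => ?_, ?_⟩
    · exact (place_eq_of_le fun x hx => hQ x (h x hx)).symm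
    · obtain ⟨t, ht⟩ := P.2.2 (WithZero.exp (-1 : ℤ))
      refine ⟨t, h t ?_, ht⟩
      rw [ht]
      exact val_uniformizer_lt_one.le
  · rintro ⟨h1, t, ht, ht1⟩ z hz
    exact mem_of_unique_of_uniformizer hK _ (chart_fg φ j) (chart_frac φ hj0 hbir) P h1 t ht ht1 z hz

/-- A place whose ring contains the local ring of the point `φ(P)` has the same image point. -/
theorem sameImage_of_le [IsAlgClosed k] (hK : IsFunctionField k K) {n : ℕ}
    (φ : Fin (n + 1) → K) (hφ : ∀ i, φ i ≠ 0) (P Q : Place k K)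
    (h : ∀ z : K, InLocRing φ P z → Q.1 z ≤ 1) : SameImage φ P Q := by
  obtain ⟨j, hj0, hj⟩ := exists_min_entry φ P 0 (hφ 0)
  rw [K666.SameIm.sameImage_iff hK φ hφ]
  intro z hz
  refine ⟨h z hz, ?_⟩
  -- the elements of the local ring with `P < 1` and `Q = 1` would be units
  have hmem : ∀ z, z ∈ loc (chart (k := k) φ j) P → Q.1 z ≤ 1 :=
    fun z hz => h z ((inLocRing_iff φ P hj0 hj z).mpr hz)
  rw [inLocRing_iff φ P hj0 hj] at hz
  -- units at `P` are units at `Q`
  have hunit : ∀ w ∈ loc (chart (k := k) φ j) P, P.1 w = 1 → Q.1 w = 1 := by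
    intro w hw hw1
    have h1 := hmem w hw
    have h2 := hmem _ (inv_mem_loc hw hw1)
    rw [map_inv₀] at h2
    have hne : Q.1 w ≠ 0 := by rw [Ne, map_eq_zero]; exact ne_zero_of_val_one P hw1
    exact le_antisymm h1 ((inv_le_one₀ (zero_lt_iff.mpr hne)).mp h2)
  have hPz : P.1 z ≤ 1 := le_one_of_mem_loc (chart_le_one φ P hj) hz
  constructor
  · intro hQz
    rcases lt_or_eq_of_le hPz with h1 | h1
    · exact h1
    · rw [hunit z hz h1] at hQz
      exact absurd hQz (lt_irrefl _)
  · intro hPz1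
    -- suppose `Q z = 1`; let `c` be its residue, `c ≠ 0`
    by_contra hQz
    have hQz1 : Q.1 z = 1 := le_antisymm (hmem z hz) (not_lt.mp hQz)
    -- there is an element `y` of the local ring with `P y < 1`, `Q y < 1`, nonzero residue issues
    obtain ⟨c, hc⟩ := exists_const hK Q z hQz1.le
    have hc0 : c ≠ 0 := by
      rintro rfl
      rw [map_zero, sub_zero, hQz1] at hc
      exact lt_irrefl _ hc
    -- `z - c` is a unit at `P` but not at `Q`
    have h1 : P.1 (z - algebraMap k K c) = 1 := by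
      rw [Valuation.map_sub_eq_of_lt_right, Place_algebraMap P c hc0]
      rw [Place_algebraMap P c hc0]
      exact hPz1
    have h2 := hunit (z - algebraMap k K c)
      (sub_mem hz (Subalgebra.algebraMap_mem _ c)) h1
    rw [h2] at hc
    exact lt_irrefl _ hc

end K665.Nonsing
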