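import Groth.Prelude.Def_W4bk4goldsch23FF
import Mathlib.RingTheory.DedekindDomain.AdicValuation
import Mathlib.RingTheory.DedekindDomain.PID
import Mathlib.FieldTheory.IntermediateField.Adjoin.Algebra
import Mathlib.FieldTheory.Minpoly.IsIntegrallyClosed
import Mathlib.RingTheory.Algebraic.Basic
import Mathlib.RingTheory.Polynomial.Basic
import Mathlib.RingTheory.Algebraic.Integral
import Mathlib.RingTheory.AlgebraicIndependent.Transcendental
import Mathlib.Algebra.Polynomial.Div

/-! `k[x, y]` as the intersection of the rings `O_P[y]`. -/

set_option autoImplicit false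

namespace K665.PlanePair

open FunFld IntermediateField Polynomial
open scoped algebraAdjoinAdjoin

variable {k K : Type*} [Field k] [Field K] [Algebra k K]

/-- `k[x]` is a principal ideal ring. -/
theorem isPrincipalIdealRing_adjoin (x : K) : IsPrincipalIdealRing (Algebra.adjoin k ({x} : Set K)) := by
  have hs : Function.Surjective
      ((aeval (⟨x, Algebra.self_mem_adjoin_singleton k x⟩ : Algebra.adjoin k ({x} : Set K))) :
        k[X] →ₐ[k] Algebra.adjoin k ({x} : Set K)) := by
    rintro ⟨z, hz⟩
    rw [Algebra.adjoin_singleton_eq_range_aeval] at hz
    obtain ⟨p, hp⟩ := hz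
    refine ⟨p, ?_⟩
    apply Subtype.ext
    refine Eq.trans ?_ hp
    change (Algebra.adjoin k ({x} : Set K)).val _ = _
    rw [← Polynomial.aeval_algHom_apply]
    rfl
  exact IsPrincipalIdealRing.of_surjective _ hs

/-- The place of `k(x)` attached to a height one prime of `k[x]`. -/
noncomputable def placeOf (x : K) [IsDedekindDomain (Algebra.adjoin k ({x} : Set K))]
    (v : IsDedekindDomain.HeightOneSpectrum (Algebra.adjoin k ({x} : Set K))) :
    Place k (IntermediateField.adjoin k ({x} : Set K)) :=
  ⟨v.valuation (IntermediateField.adjoin k ({x} : Set K)), fun c => by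
    have : algebraMap k (IntermediateField.adjoin k ({x} : Set K)) c =
        algebraMap (Algebra.adjoin k ({x} : Set K)) _
          (algebraMap k (Algebra.adjoin k ({x} : Set K)) c) := rfl
    rw [this]
    exact v.valuation_le_one _, v.valuation_surjective _⟩

theorem placeOf_val (x : K) [IsDedekindDomain (Algebra.adjoin k ({x} : Set K))]
    (v : IsDedekindDomain.HeightOneSpectrum (Algebra.adjoin k ({x} : Set K))) :
    (placeOf x v).1 = v.valuation (IntermediateField.adjoin k ({x} : Set K)) := rfl

theorem mem_range_of_places (x : K)
    (z : IntermediateField.adjoin k ({x} : Set K))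
    (hz : ∀ P : Place k (IntermediateField.adjoin k ({x} : Set K)),
      P.1 ⟨x, IntermediateField.mem_adjoin_simple_self k x⟩ ≤ 1 → P.1 z ≤ 1) :
    (z : K) ∈ Algebra.adjoin k ({x} : Set K) := by
  have hpir := isPrincipalIdealRing_adjoin (k := k) x
  have hded : IsDedekindDomain (Algebra.adjoin k ({x} : Set K)) := inferInstance
  have := IsDedekindDomain.HeightOneSpectrum.mem_integers_of_valuation_le_one
    (R := Algebra.adjoin k ({x} : Set K)) (IntermediateField.adjoin k ({x} : Set K)) z
    (fun v => by
      have h := hz (placeOf x v) (by
        rw [placeOf_val]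
        have : (⟨x, IntermediateField.mem_adjoin_simple_self k x⟩ :
            IntermediateField.adjoin k ({x} : Set K)) =
          algebraMap (Algebra.adjoin k ({x} : Set K)) _
            ⟨x, Algebra.self_mem_adjoin_singleton k x⟩ := rfl
        rw [this]
        exact v.valuation_le_one _)
      rwa [placeOf_val] at h)
  obtain ⟨a, rfl⟩ := this
  exact a.2

theorem main (x y : K)
    (hxy : IntermediateField.adjoin k ({x, y} : Set K) = ⊤)
    (hy : IsIntegral (Algebra.adjoin k ({x} : Set K)) y) :
    (Algebra.adjoin k ({x, y} : Set K) : Set K) =
      ⋂ (P : FunFld.Place k (IntermediateField.adjoin k ({x} : Set K)))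
        (_ : P.1 ⟨x, IntermediateField.mem_adjoin_simple_self k x⟩ ≤ 1),
        (Subring.closure
          ((algebraMap (IntermediateField.adjoin k ({x} : Set K)) K '' (P.O : Set _)) ∪ {y}) :
          Set K) := by
  set F := IntermediateField.adjoin k ({x} : Set K) with hF
  set A := Algebra.adjoin k ({x} : Set K) with hA
  have hpir : IsPrincipalIdealRing A := isPrincipalIdealRing_adjoin (k := k) x
  apply Set.Subset.antisymm
  · intro z hz
    simp only [Set.mem_iInter]
    intro P hP
    have hsub : Algebra.adjoin k ({x, y} : Set K) ≤
        { Subring.closure ((algebraMap F K '' (P.O : Set _)) ∪ {y}) with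
          algebraMap_mem' := fun c => Subring.subset_closure
            (Or.inl ⟨algebraMap k F c, P.2.1 c, rfl⟩) } := by
      apply Algebra.adjoin_le
      intro w hw
      rcases hw with rfl | hw
      · exact Subring.subset_closure (Or.inl ⟨⟨w, IntermediateField.mem_adjoin_simple_self k w⟩,
          hP, rfl⟩)
      · rw [Set.mem_singleton_iff] at hw
        subst hw
        exact Subring.subset_closure (Or.inr rfl)
    exact hsub hz
  · intro z hz
    simp only [Set.mem_iInter] at hz
    -- write `z` as a polynomial in `y` of small degree
    have hyF : IsIntegral F y := hy.tower_top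
    have htop : IntermediateField.adjoin F ({y} : Set K) = ⊤ := by
      rw [eq_top_iff]
      intro w _
      have hw : w ∈ IntermediateField.adjoin k ({x, y} : Set K) := by rw [hxy]; trivial
      have hle : IntermediateField.adjoin k ({x, y} : Set K) ≤
          (IntermediateField.adjoin F ({y} : Set K)).restrictScalars k := by
        rw [IntermediateField.adjoin_le_iff]
        intro v hv
        rcases hv with rfl | hv
        · exact (IntermediateField.adjoin F ({y} : Set K)).algebraMap_mem
            ⟨v, IntermediateField.mem_adjoin_simple_self k v⟩
        · rw [Set.mem_singleton_iff] at hv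
          subst hv
          exact IntermediateField.mem_adjoin_simple_self F v
      exact hle hw
    have hadj : Algebra.adjoin F ({y} : Set K) = ⊤ := by
      have := IntermediateField.adjoin_simple_toSubalgebra_of_isAlgebraic hyF.isAlgebraic
      rw [htop] at this
      rw [← this]
      rfl
    obtain ⟨q₀, hq₀⟩ : ∃ q₀ : F[X], aeval y q₀ = z := by
      have hzm : z ∈ Algebra.adjoin F ({y} : Set K) := by rw [hadj]; trivial
      rw [Algebra.adjoin_singleton_eq_range_aeval] at hzm
      exact hzm
    set m := minpoly A y with hm
    have hmm : m.Monic := minpoly.monic hy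
    have hmF : minpoly F y = m.map (algebraMap A F) :=
      minpoly.isIntegrallyClosed_eq_field_fractions' F hy
    set q := q₀ %ₘ (minpoly F y) with hq
    have hqz : aeval y q = z := by
      rw [hq, Polynomial.modByMonic_eq_sub_mul_div, map_sub, map_mul, minpoly.aeval, zero_mul,
        sub_zero, hq₀]
    have hqdeg : q.degree < (minpoly F y).degree :=
      Polynomial.degree_modByMonic_lt _ (minpoly.monic hyF)
    -- coefficients of `q` are in `k[x]`
    have hcoef : ∀ i, (q.coeff i : K) ∈ A := by
      intro i
      apply mem_range_of_places x
      intro P hP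
      have hzP := hz P hP
      -- the polynomial ring over `O_P`
      let g : P.O →+* K := (algebraMap F K).comp P.O.subtype
      have hle : Subring.closure ((algebraMap F K '' (P.O : Set _)) ∪ {y}) ≤
          (Polynomial.eval₂RingHom g y).range := by
        rw [Subring.closure_le]
        rintro w (⟨a, ha, rfl⟩ | hw)
        · exact ⟨C ⟨a, ha⟩, by simp [g]⟩
        · rw [Set.mem_singleton_iff] at hw
          subst hw
          exact ⟨X, by simp⟩
      obtain ⟨p, hp⟩ := hle hzP
      rw [Polynomial.coe_eval₂RingHom] at hp
      -- `A → O_P`
      have hAP : ∀ a : A, P.1 (algebraMap A F a) ≤ 1 := by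
        rintro ⟨a, ha⟩
        have : ∀ (b : K) (hb : b ∈ A), P.1 (⟨b, IntermediateField.algebra_adjoin_le_adjoin k _ hb⟩ : F) ≤ 1 := by
          intro b hb
          induction hb using Algebra.adjoin_induction with
          | mem v hv =>
            rw [Set.mem_singleton_iff] at hv
            subst hv
            exact hP
          | algebraMap r => exact P.2.1 r
          | add a b _ _ iha ihb => exact (P.1.map_add _ _).trans (max_le iha ihb)
          | mul a b _ _ iha ihb =>
            exact (P.1.map_mul _ _).trans_le (mul_le_one' iha ihb)
        exact this a ha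
      let h : A →+* P.O := (algebraMap A F).codRestrict P.O hAP
      have hh : P.O.subtype.comp h = algebraMap A F := rfl
      set mP := m.map h with hmP
      have hmPm : mP.Monic := hmm.map _
      set p' := p %ₘ mP with hp'
      have hmPF : mP.map P.O.subtype = minpoly F y := by
        rw [hmP, Polynomial.map_map, hh, hmF]
      have hev : ∀ r : (P.O)[X], aeval y (r.map P.O.subtype) = eval₂ g y r := by
        intro r
        rw [aeval_def, Polynomial.eval₂_map]
      have hpq : q = p'.map P.O.subtype := by
        by_contra hne
        have h0 : aeval y (q - p'.map P.O.subtype) = 0 := by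
          rw [map_sub, hqz, hp', Polynomial.map_modByMonic _ hmPm, hmPF,
            Polynomial.modByMonic_eq_sub_mul_div, map_sub, map_mul, minpoly.aeval, zero_mul,
            sub_zero, hev, hp, sub_self]
        have hdeg : (q - p'.map P.O.subtype).degree < (minpoly F y).degree := by
          apply lt_of_le_of_lt (Polynomial.degree_sub_le _ _)
          apply max_lt hqdeg
          rw [← hmPF]
          rw [Polynomial.degree_map_eq_of_injective (Subtype.val_injective),
            Polynomial.degree_map_eq_of_injective (Subtype.val_injective)]
          exact Polynomial.degree_modByMonic_lt _ hmPm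
        have := minpoly.degree_le_of_ne_zero F y (sub_ne_zero.mpr hne) h0
        exact absurd hdeg (not_lt.mpr this)
      rw [hpq, Polynomial.coeff_map]
      exact (p'.coeff i).2
    rw [← hqz, aeval_eq_sum_range]
    have hmono : A ≤ Algebra.adjoin k ({x, y} : Set K) :=
      Algebra.adjoin_mono (by intro w hw; left; exact hw)
    apply sum_mem
    intro i _
    rw [Algebra.smul_def]
    have hyy : y ∈ Algebra.adjoin k ({x, y} : Set K) := Algebra.subset_adjoin (Or.inr rfl)
    exact mul_mem (hmono (hcoef i)) (pow_mem hyy _)

end K665.PlanePair
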