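import Groth.Agent.FunFld.K665.PlaneIdeal
import Groth.Agent.FunFld.K665.PlanePair
import Mathlib.RingTheory.Polynomial.GaussLemma
import Mathlib.Algebra.Polynomial.Degree.Lemmas
import Mathlib.RingTheory.MvPolynomial.Homogeneous
import Mathlib.FieldTheory.Minpoly.Field
import Mathlib.FieldTheory.IntermediateField.Adjoin.Basic

/-! Degree of a generic projection of a plane curve. -/

set_option autoImplicit false

namespace K665.PlaneDeg

open MvPolynomial IntermediateField
open scoped algebraAdjoinAdjoin

variable {k : Type*} [Field k]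

/-- The substitution `X₀ ↦ T`, `X₁ ↦ u - λ T`. -/
noncomputable def sub {A : Type*} [CommRing A] [Algebra k A] (lam : k) (u : A) :
    MvPolynomial (Fin 2) k →ₐ[k] Polynomial A :=
  MvPolynomial.aeval ![Polynomial.X,
    Polynomial.C u - Polynomial.C (algebraMap k A lam) * Polynomial.X]

theorem sub_monomial {A : Type*} [CommRing A] [Algebra k A] (lam : k) (u : A) (m : Fin 2 →₀ ℕ)
    (c : k) : sub lam u (monomial m c) =
      Polynomial.C (algebraMap k A c) * (Polynomial.X ^ m 0 *
        (Polynomial.C u - Polynomial.C (algebraMap k A lam) * Polynomial.X) ^ m 1) := by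
  unfold sub
  rw [aeval_monomial, Finsupp.prod_fintype _ _ (fun i => pow_zero _), Fin.prod_univ_two]
  rfl

theorem natDegree_lin {A : Type*} [CommRing A] (a b : A) :
    (Polynomial.C a - Polynomial.C b * Polynomial.X).natDegree ≤ 1 := by
  refine (Polynomial.natDegree_sub_le _ _).trans (max_le ?_ ?_)
  · rw [Polynomial.natDegree_C]; exact zero_le_one
  · exact (Polynomial.natDegree_C_mul_le _ _).trans Polynomial.natDegree_X_le

theorem sub_coeff {A : Type*} [CommRing A] [Algebra k A] (lam : k) (u : A)
    (f : MvPolynomial (Fin 2) k) (d : ℕ) (hf : f.totalDegree ≤ d) :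
    (sub lam u f).natDegree ≤ d ∧ (sub lam u f).coeff d =
      algebraMap k A (eval ![1, -lam] (homogeneousComponent d f)) := by
  classical
  have hmono : ∀ (m : Fin 2 →₀ ℕ) (c : k), m.degree ≤ d →
      (sub lam u (monomial m c)).natDegree ≤ d ∧ (sub lam u (monomial m c)).coeff d =
      algebraMap k A (eval ![1, -lam] (homogeneousComponent d (monomial m c))) := by
    intro m c hm
    have hdeg : m.degree = m 0 + m 1 := by
      rw [Finsupp.degree_eq_sum, Fin.sum_univ_two]
    rw [sub_monomial]
    set p := (Polynomial.C u - Polynomial.C (algebraMap k A lam) * Polynomial.X) with hp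
    have h1 : (p ^ m 1).natDegree ≤ m 1 := by
      refine Polynomial.natDegree_pow_le.trans ?_
      calc m 1 * p.natDegree ≤ m 1 * 1 := Nat.mul_le_mul_left _ (natDegree_lin _ _)
        _ = m 1 := mul_one _
    have h0 : ((Polynomial.X : Polynomial A) ^ m 0).natDegree ≤ m 0 :=
      Polynomial.natDegree_X_pow_le _
    have h2 : (Polynomial.X ^ m 0 * p ^ m 1).natDegree ≤ m 0 + m 1 :=
      Polynomial.natDegree_mul_le.trans (add_le_add h0 h1)
    have h3 : (Polynomial.C (algebraMap k A c) * (Polynomial.X ^ m 0 * p ^ m 1)).natDegree ≤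
        m 0 + m 1 := (Polynomial.natDegree_C_mul_le _ _).trans h2
    refine ⟨h3.trans (hdeg ▸ hm), ?_⟩
    rw [homogeneousComponent_of_mem (isHomogeneous_monomial c rfl :
      monomial m c ∈ homogeneousSubmodule (Fin 2) k m.degree)]
    by_cases hmd : d = m.degree
    · rw [if_pos hmd, hmd, hdeg, Polynomial.coeff_C_mul,
        Polynomial.coeff_mul_add_eq_of_natDegree_le h0 h1, Polynomial.coeff_X_pow_self, one_mul]
      have h4 : (p ^ m 1).coeff (m 1) = (-algebraMap k A lam) ^ m 1 := by
        have := Polynomial.coeff_pow_of_natDegree_le (p := p) (n := 1) (m := m 1)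
          (natDegree_lin _ _)
        rw [mul_one] at this
        rw [this]
        simp [hp]
      rw [h4, eval_monomial, Finsupp.prod_fintype _ _ (fun i => pow_zero _), Fin.prod_univ_two]
      simp
    · rw [if_neg hmd, map_zero (eval _), map_zero (algebraMap k A)]
      apply Polynomial.coeff_eq_zero_of_natDegree_lt
      have : m 0 + m 1 < d := by
        rw [← hdeg]
        exact lt_of_le_of_ne hm (Ne.symm hmd)
      exact h3.trans_lt this
  have hsum : f = ∑ m ∈ f.support, monomial m (coeff m f) := (support_sum_monomial_coeff f).symm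
  have hm : ∀ m ∈ f.support, m.degree ≤ d := fun m hm' =>
    (le_totalDegree hm').trans hf
  constructor
  · conv_lhs => rw [hsum]
    rw [map_sum]
    apply Polynomial.natDegree_sum_le_of_forall_le
    intro m hm'
    exact (hmono m _ (hm m hm')).1
  · conv_lhs => rw [hsum]
    conv_rhs => rw [hsum]
    rw [map_sum, Polynomial.finsetSum_coeff, map_sum, map_sum, map_sum]
    exact Finset.sum_congr rfl fun m hm' => (hmono m _ (hm m hm')).2

/-- The linear change of coordinates. -/
noncomputable def lin (lam : k) : MvPolynomial (Fin 2) k ≃ₐ[k] MvPolynomial (Fin 2) k :=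
  AlgEquiv.ofAlgHom (aeval ![X 0, X 1 - C lam * X 0]) (aeval ![X 0, X 1 + C lam * X 0])
    (by
      apply algHom_ext
      intro i
      fin_cases i
      · simp
      · simp [MvPolynomial.algebraMap_eq])
    (by
      apply algHom_ext
      intro i
      fin_cases i
      · simp
      · simp [MvPolynomial.algebraMap_eq])

variable {K : Type*} [Field K] [Algebra k K]

/-- The substitution as an isomorphism when `u` is transcendental. -/
noncomputable def subEquiv (lam : k) (u : K) (hu : Transcendental k u) :
    MvPolynomial (Fin 2) k ≃ₐ[k] Polynomial (Algebra.adjoin k ({u} : Set K)) :=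
  (lin lam).trans <| (finSuccEquiv k 1).trans <|
    (Polynomial.mapAlgEquiv (MvPolynomial.uniqueAlgEquiv k (Fin 1))).trans
      (Polynomial.mapAlgEquiv (Polynomial.algEquivOfTranscendental k u hu))

theorem subEquiv_eq (lam : k) (u : K) (hu : Transcendental k u) (f : MvPolynomial (Fin 2) k) :
    subEquiv lam u hu f =
      sub lam (⟨u, Algebra.self_mem_adjoin_singleton k u⟩ : Algebra.adjoin k ({u} : Set K)) f := by
  have h : (subEquiv lam u hu : MvPolynomial (Fin 2) k →ₐ[k] _) = sub lam
      (⟨u, Algebra.self_mem_adjoin_singleton k u⟩ : Algebra.adjoin k ({u} : Set K)) := by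
    apply algHom_ext
    intro i
    have hl0 : lin lam (X 0) = X 0 := by simp [lin]
    have hl1 : lin lam (X 1) = X 1 - C lam * X 0 := by simp [lin]
    have hX1 : finSuccEquiv k 1 (X 1) = Polynomial.C (X 0) := finSuccEquiv_X_succ (j := (0 : Fin 1))
    fin_cases i
    · simp [subEquiv, sub, hl0, finSuccEquiv_X_zero]
    · have h1 : finSuccEquiv k 1 (X 1 - C lam * X 0) =
          Polynomial.C (X 0) - Polynomial.C (C lam) * Polynomial.X := by
        rw [map_sub, map_mul, hX1, finSuccEquiv_X_zero]
        congr 2
        simp [finSuccEquiv_apply]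
      change (Polynomial.mapAlgEquiv (Polynomial.algEquivOfTranscendental k u hu))
        ((Polynomial.mapAlgEquiv (MvPolynomial.uniqueAlgEquiv k (Fin 1)))
          (finSuccEquiv k 1 (lin lam (X 1)))) = _
      rw [hl1, h1]
      simp [sub]
  exact congrArg (fun g : MvPolynomial (Fin 2) k →ₐ[k] _ => g f) h

theorem aeval_sub {A : Type*} [CommRing A] [Algebra k A] [Algebra A K] [IsScalarTower k A K]
    (lam : k) (u : A) (x y : K) (h : y = algebraMap A K u - algebraMap k K lam * x)
    (f : MvPolynomial (Fin 2) k) :
    Polynomial.aeval x (sub lam u f) = MvPolynomial.aeval ![x, y] f := by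
  have h1 : ((Polynomial.aeval x : Polynomial A →ₐ[A] K).restrictScalars k).comp (sub lam u) =
      MvPolynomial.aeval ![x, y] := by
    apply algHom_ext
    intro i
    fin_cases i
    · simp [sub]
    · simp [sub, h, ← IsScalarTower.algebraMap_apply]
  exact congrArg (fun g : MvPolynomial (Fin 2) k →ₐ[k] K => g f) h1

/-- The degree of `K` over `k(u)`, `u` a generic linear form. -/
theorem finrank_eq (x y : K) (hxy : IntermediateField.adjoin k ({x, y} : Set K) = ⊤)
    (f : MvPolynomial (Fin 2) k) (hf : Irreducible f) (hfxy : MvPolynomial.aeval ![x, y] f = 0)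
    (lam : k) (u : K) (hy : y = u - algebraMap k K lam * x) (hu : Transcendental k u)
    (hlam : eval ![1, -lam] (homogeneousComponent f.totalDegree f) ≠ 0) :
    Module.finrank (IntermediateField.adjoin k ({u} : Set K)) K = f.totalDegree := by
  set F := IntermediateField.adjoin k ({u} : Set K) with hF
  set A := Algebra.adjoin k ({u} : Set K) with hA
  have hpir : IsPrincipalIdealRing A := PlanePair.isPrincipalIdealRing_adjoin (k := k) u
  set u' : A := ⟨u, Algebra.self_mem_adjoin_singleton k u⟩ with hu'
  set d := f.totalDegree with hd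
  set p := sub lam u' f with hp
  obtain ⟨hpd, hpc⟩ := sub_coeff lam u' f d le_rfl
  set c := eval ![1, -lam] (homogeneousComponent d f) with hc
  have hirr : Irreducible p := by
    have h1 : Irreducible (subEquiv lam u hu f) := (MulEquiv.irreducible_iff _).mpr hf
    rw [subEquiv_eq] at h1
    exact h1
  have hroot : Polynomial.aeval x p = 0 := by
    rw [hp, aeval_sub lam u' x y hy, hfxy]
  have hcA : IsUnit (algebraMap k A c) := (IsUnit.mk0 c hlam).map _
  have hcA0 : algebraMap k A c ≠ 0 := hcA.ne_zero
  have hnat : p.natDegree = d := by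
    apply le_antisymm hpd
    apply Polynomial.le_natDegree_of_ne_zero
    rw [hpc]
    exact hcA0
  have hlead : p.leadingCoeff = algebraMap k A c := by
    rw [Polynomial.leadingCoeff, hnat, hpc]
  set p1 := Polynomial.C (algebraMap k A c⁻¹) * p with hp1
  have hcc : algebraMap k A c⁻¹ * algebraMap k A c = 1 := by
    rw [← map_mul, inv_mul_cancel₀ hlam, map_one]
  have hmonic : p1.Monic := by
    rw [Polynomial.Monic, hp1, Polynomial.leadingCoeff_mul, Polynomial.leadingCoeff_C, hlead, hcc]
  have hunit : IsUnit (Polynomial.C (algebraMap k A c⁻¹)) :=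
    (IsUnit.of_mul_eq_one _ hcc).map Polynomial.C
  have hirr1 : Irreducible p1 := by
    rw [hp1]
    exact (irreducible_isUnit_mul hunit).mpr hirr
  have hnat1 : p1.natDegree = d := by
    rw [hp1, Polynomial.natDegree_mul hunit.ne_zero hirr.ne_zero, Polynomial.natDegree_C, zero_add,
      hnat]
  have hirrF : Irreducible (p1.map (algebraMap A F)) :=
    (hmonic.irreducible_iff_irreducible_map_fraction_map).mp hirr1
  have hrootF : Polynomial.aeval x (p1.map (algebraMap A F)) = 0 := by
    rw [Polynomial.aeval_map_algebraMap, hp1, map_mul, hroot, mul_zero]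
  have hmin := minpoly.eq_of_irreducible_of_monic hirrF hrootF (hmonic.map _)
  have hint : IsIntegral F x := by
    refine ⟨p1.map (algebraMap A F), hmonic.map _, hrootF⟩
  have h1 : Module.finrank F (IntermediateField.adjoin F ({x} : Set K)) = d := by
    rw [IntermediateField.adjoin.finrank hint, ← hmin, hmonic.natDegree_map, hnat1]
  have htop : IntermediateField.adjoin F ({x} : Set K) = ⊤ := by
    rw [eq_top_iff]
    intro w _
    have hw : w ∈ IntermediateField.adjoin k ({x, y} : Set K) := by rw [hxy]; trivial
    have hle : IntermediateField.adjoin k ({x, y} : Set K) ≤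
        (IntermediateField.adjoin F ({x} : Set K)).restrictScalars k := by
      rw [IntermediateField.adjoin_le_iff]
      have hxm : x ∈ IntermediateField.adjoin F ({x} : Set K) :=
        IntermediateField.mem_adjoin_simple_self F x
      intro v hv
      rcases hv with rfl | hv
      · exact hxm
      · rw [Set.mem_singleton_iff] at hv
        subst hv
        change v ∈ IntermediateField.adjoin F ({x} : Set K)
        rw [hy]
        have hum : u ∈ IntermediateField.adjoin F ({x} : Set K) :=
          (IntermediateField.adjoin F ({x} : Set K)).algebraMap_mem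
            ⟨u, IntermediateField.mem_adjoin_simple_self k u⟩
        have hlm : algebraMap k K lam ∈ IntermediateField.adjoin F ({x} : Set K) :=
          (IntermediateField.adjoin F ({x} : Set K)).algebraMap_mem (algebraMap k F lam)
        exact sub_mem hum (mul_mem hlm hxm)
    exact hle hw
  rw [htop] at h1
  rw [← h1]
  exact (IntermediateField.finrank_top' (F := F) (E := K)).symm

end K665.PlaneDeg
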