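import Groth.Agent.FunFld.K665.PlaneDeg
import Groth.Agent.FunFld.K665.MapDiv
import Groth.Agent.FunFld.K659.DegZeros

/-! The degree of a plane curve equals the degree of its equation. -/

set_option autoImplicit false

namespace K665.PlaneDegMain

open FunFld K666.Basic K665.PlaneIdeal K660.Places

universe u v

variable {k : Type u} {K : Type v} [Field k] [Field K] [Algebra k K]

open MvPolynomial in
theorem homogeneousComponent_totalDegree_ne_zero {n : ℕ} {f : MvPolynomial (Fin n) k}
    (hf0 : f ≠ 0) : homogeneousComponent f.totalDegree f ≠ 0 := by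
  intro h
  obtain ⟨m, hm, hmd⟩ : ∃ m ∈ f.support, m.degree = f.totalDegree := by
    have hs : f.support.Nonempty := by rwa [Finset.nonempty_iff_ne_empty, Ne, support_eq_empty]
    obtain ⟨m, hm, h2⟩ := Finset.exists_mem_eq_sup f.support hs fun m => m.degree
    refine ⟨m, hm, ?_⟩
    rw [← h2]
    rfl
  have := congrArg (coeff m) h
  rw [coeff_homogeneousComponent, if_pos (by rw [hmd]), coeff_zero] at this
  exact (mem_support_iff.mp hm) this

open MvPolynomial in
theorem finite_bad_one (hK : IsFunctionField k K) {g : MvPolynomial (Fin 2) k} {d : ℕ}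
    (hg : g.IsHomogeneous d) (hg0 : g ≠ 0) : {lam : k | eval ![1, -lam] g = 0}.Finite := by
  classical
  let q : Polynomial k := aeval ![1, -Polynomial.X] g
  have hq : ∀ lam : k, q.eval lam = eval ![1, -lam] g := by
    intro lam
    have h1 : (Polynomial.aeval lam : Polynomial k →ₐ[k] k).comp
        (aeval ![1, -Polynomial.X] : MvPolynomial (Fin 2) k →ₐ[k] Polynomial k) =
        aeval ![1, -lam] := by
      apply algHom_ext
      intro i
      fin_cases i <;> simp
    have h2 := congrArg (fun φ : MvPolynomial (Fin 2) k →ₐ[k] k => φ g) h1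
    simpa [q] using h2
  have hq0 : q ≠ 0 := by
    intro h0
    obtain ⟨⟨z, hz, -⟩, -⟩ := hK
    apply hg0
    refine eq_zero_of_binary (K := K) (u := ![1, -z]) one_ne_zero ?_ hg ?_
    · change Transcendental k (-z / 1)
      rw [div_one]
      intro h
      exact hz (by simpa using h.neg)
    · have h1 : (Polynomial.aeval z : Polynomial k →ₐ[k] K).comp
          (aeval ![1, -Polynomial.X] : MvPolynomial (Fin 2) k →ₐ[k] Polynomial k) =
          aeval ![1, -z] := by
        apply algHom_ext
        intro i
        fin_cases i <;> simp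
      have h2 := congrArg (fun φ : MvPolynomial (Fin 2) k →ₐ[k] K => φ g) h1
      change Polynomial.aeval z q = _ at h2
      rw [h0, map_zero] at h2
      exact h2.symm
  refine (q.roots.toFinset.finite_toSet).subset ?_
  intro lam hlam
  have : eval ![1, -lam] g = 0 := hlam
  simp only [Finset.mem_coe, Multiset.mem_toFinset]
  rw [Polynomial.mem_roots hq0, Polynomial.IsRoot, hq, this]

theorem subsingleton_bad_two {x y : K}
    (h : Transcendental k x ∨ Transcendental k y) :
    {lam : k | ¬ Transcendental k (y + algebraMap k K lam * x)}.Subsingleton := by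
  intro a ha b hb
  by_contra hne
  have ha' : IsAlgebraic k (y + algebraMap k K a * x) := not_not.mp ha
  have hb' : IsAlgebraic k (y + algebraMap k K b * x) := not_not.mp hb
  have h1 : IsAlgebraic k (algebraMap k K (a - b) * x) := by
    have := ha'.sub hb'
    have e : y + algebraMap k K a * x - (y + algebraMap k K b * x) =
        algebraMap k K (a - b) * x := by rw [map_sub]; ring
    rwa [e] at this
  have hx : IsAlgebraic k x := by
    have h2 : x = algebraMap k K (a - b)⁻¹ * (algebraMap k K (a - b) * x) := by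
      rw [← mul_assoc, ← map_mul, inv_mul_cancel₀ (sub_ne_zero.mpr hne), map_one, one_mul]
    rw [h2]
    exact (isAlgebraic_algebraMap _).mul h1
  have hy : IsAlgebraic k y := by
    have e : y = (y + algebraMap k K a * x) - algebraMap k K a * x := by ring
    rw [e]
    exact ha'.sub ((isAlgebraic_algebraMap _).mul hx)
  rcases h with h | h
  · exact h hx
  · exact h hy

theorem subsingleton_bad_three (P : Place k K) (x y : K) :
    {lam : k | P.1 (y + algebraMap k K lam * x) < max (P.1 x) (P.1 y)}.Subsingleton := by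
  intro a ha b hb
  by_contra hne
  have ha' : P.1 (y + algebraMap k K a * x) < max (P.1 x) (P.1 y) := ha
  have hb' : P.1 (y + algebraMap k K b * x) < max (P.1 x) (P.1 y) := hb
  have hx : P.1 x < max (P.1 x) (P.1 y) := by
    have e : algebraMap k K (a - b) * x =
        (y + algebraMap k K a * x) - (y + algebraMap k K b * x) := by rw [map_sub]; ring
    have h1 := P.1.map_sub_lt ha' hb'
    rw [← e, map_mul, Place_algebraMap P _ (sub_ne_zero.mpr hne), one_mul] at h1
    exact h1
  have hy : P.1 y < max (P.1 x) (P.1 y) := by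
    have e : y = (y + algebraMap k K a * x) - algebraMap k K a * x := by ring
    have h1 : P.1 (algebraMap k K a * x) < max (P.1 x) (P.1 y) := by
      rw [map_mul]
      exact (mul_le_mul' (P.2.1 a) le_rfl).trans_lt (by rwa [one_mul])
    have h2 := P.1.map_sub_lt ha' h1
    rwa [← e] at h2
  exact absurd (max_lt hx hy) (lt_irrefl _)

theorem log_max_one (a : WithZero (Multiplicative ℤ)) :
    WithZero.log (max 1 a) = max 0 (WithZero.log a) := by
  by_cases ha : a = 0
  · simp [ha]
  · rcases le_total 1 a with h | h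
    · rw [max_eq_right h, max_eq_right]
      rwa [← WithZero.log_one, WithZero.log_le_log one_ne_zero ha]
    · rw [max_eq_left h, max_eq_left, WithZero.log_one]
      rwa [← WithZero.log_one, WithZero.log_le_log ha one_ne_zero]

theorem log_max_three (a b : WithZero (Multiplicative ℤ)) :
    WithZero.log (max 1 (max a b)) = max 0 (max (WithZero.log a) (WithZero.log b)) := by
  rcases le_total a b with h | h
  · rw [max_eq_right h, log_max_one]
    by_cases ha : a = 0
    · rw [ha, WithZero.log_zero, ← max_assoc, max_self]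
    · have hb : b ≠ 0 := fun hb => ha (le_antisymm (hb ▸ h) zero_le)
      rw [max_eq_right ((WithZero.log_le_log ha hb).mpr h)]
  · rw [max_eq_left h, log_max_one]
    by_cases hb : b = 0
    · rw [hb, WithZero.log_zero, max_comm _ (0 : ℤ), ← max_assoc, max_self]
    · have ha : a ≠ 0 := fun ha => hb (le_antisymm (ha ▸ h) zero_le)
      rw [max_eq_left ((WithZero.log_le_log hb ha).mpr h)]

theorem mapDiv_plane_apply (hK : IsFunctionField k K) (x y : K) (P : Place k K) :
    mapDiv k ![(1 : K), x, y] P = WithZero.log (max 1 (max (P.1 x) (P.1 y))) := by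
  rw [MapDiv.mapDiv_apply hK, log_max_three]
  have h0 : P.ord (![(1 : K), x, y] 0) = 0 := K660.Ord.ord_one P
  have h1 : P.ord (![(1 : K), x, y] 1) = -WithZero.log (P.1 x) := rfl
  have h2 : P.ord (![(1 : K), x, y] 2) = -WithZero.log (P.1 y) := rfl
  apply le_antisymm
  · rw [neg_le]
    apply Finset.le_inf'
    intro i _
    fin_cases i
    · change _ ≤ P.ord (![(1 : K), x, y] 0)
      rw [h0]; simp
    · change _ ≤ P.ord (![(1 : K), x, y] 1)
      rw [h1]; simp
    · change _ ≤ P.ord (![(1 : K), x, y] 2)
      rw [h2]; simp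
  · have e0 := Finset.inf'_le (fun i => P.ord (![(1 : K), x, y] i)) (Finset.mem_univ (0 : Fin 3))
    have e1 := Finset.inf'_le (fun i => P.ord (![(1 : K), x, y] i)) (Finset.mem_univ (1 : Fin 3))
    have e2 := Finset.inf'_le (fun i => P.ord (![(1 : K), x, y] i)) (Finset.mem_univ (2 : Fin 3))
    rw [h0] at e0
    rw [h1] at e1
    rw [h2] at e2
    refine max_le ?_ (max_le ?_ ?_)
    · linarith
    · linarith
    · linarith

theorem main (hK : IsFunctionField k K) [Infinite k] (x y : K)
    (hxy : IntermediateField.adjoin k ({x, y} : Set K) = ⊤) (f : MvPolynomial (Fin 2) k)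
    (hf : Irreducible f) (hfxy : MvPolynomial.aeval ![x, y] f = 0) :
    (mapDiv k ![(1 : K), x, y]).deg = f.totalDegree := by
  -- a generic `λ`
  have hS : ({P : Place k K | ¬ P.1 x ≤ 1} ∪ {P : Place k K | ¬ P.1 y ≤ 1}).Finite :=
    (finite_pole hK x).union (finite_pole hK y)
  have hB : ({lam : k | MvPolynomial.eval ![1, -lam]
        (MvPolynomial.homogeneousComponent f.totalDegree f) = 0} ∪
      {lam : k | ¬ Transcendental k (y + algebraMap k K lam * x)} ∪
      ⋃ P ∈ ({P : Place k K | ¬ P.1 x ≤ 1} ∪ {P : Place k K | ¬ P.1 y ≤ 1}),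
        {lam : k | P.1 (y + algebraMap k K lam * x) < max (P.1 x) (P.1 y)}).Finite := by
    refine ((finite_bad_one hK (MvPolynomial.homogeneousComponent_isHomogeneous _ f)
      (homogeneousComponent_totalDegree_ne_zero hf.ne_zero)).union
      (subsingleton_bad_two (transcendental_or hK hxy)).finite).union ?_
    exact hS.biUnion fun P _ => (subsingleton_bad_three P x y).finite
  obtain ⟨lam, hlam⟩ := hB.infinite_compl.nonempty
  simp only [Set.mem_compl_iff, Set.mem_union, Set.mem_iUnion, Set.mem_ofPred_eq, not_or,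
    not_exists, not_not, not_lt] at hlam
  obtain ⟨⟨h1, h2⟩, h3⟩ := hlam
  set u := y + algebraMap k K lam * x with hu
  have hval : ∀ P : Place k K, max 1 (P.1 u) = max 1 (max (P.1 x) (P.1 y)) := by
    intro P
    have hle : P.1 u ≤ max (P.1 x) (P.1 y) := by
      refine (P.1.map_add _ _).trans (max_le (le_max_right _ _) ?_)
      rw [map_mul]
      exact ((mul_le_mul' (P.2.1 lam) le_rfl).trans_eq (one_mul _)).trans (le_max_left _ _)
    by_cases hP : P.1 x ≤ 1 ∧ P.1 y ≤ 1
    · rw [max_eq_left (hle.trans (max_le hP.1 hP.2)), max_eq_left (max_le hP.1 hP.2)]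
    · have hP' : ¬ P.1 x ≤ 1 ∨ ¬ P.1 y ≤ 1 := by tauto
      have := h3 P hP'
      rw [le_antisymm hle this]
  have hdiv : mapDiv k ![(1 : K), x, y] = K659.DegZeros.zdiv k u⁻¹ := by
    ext P
    rw [mapDiv_plane_apply hK, ← hval P, log_max_one, K659.DegZeros.zdiv_apply hK,
      K660.Ord.ord_inv, max_comm]
    congr 1
    change _ = - - _
    rw [neg_neg]
  have htr : Transcendental k u⁻¹ := by
    intro h
    apply h2
    rw [← inv_inv u]
    exact h.inv
  rw [hdiv, K659.DegZeros.deg_zdiv_eq hK htr, Groth.Agent.MiscA.WCPlace.adjoin_inv,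
    PlaneDeg.finrank_eq x y hxy f hf hfxy lam u (by rw [hu]; ring) h2 h1]

end K665.PlaneDegMain
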