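import Groth.Agent.FunFld.K665.Gauss
import Groth.Agent.FunFld.K669.MvPolyDer
import Groth.Agent.FunFld.K666.Basic
import Mathlib.RingTheory.AlgebraicIndependent.TranscendenceBasis
import Mathlib.FieldTheory.IntermediateField.Adjoin.Basic
import Mathlib.Algebra.MvPolynomial.NoZeroDivisors

/-! The homogeneous ideal of a projective curve; plane curves have a principal ideal. -/

set_option autoImplicit false

namespace K665.PlaneIdeal

open MvPolynomial

variable {k K : Type*} [Field k] [Field K] [Algebra k K]

/-- The evaluation `Xᵢ ↦ uᵢ T`. -/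
noncomputable abbrev ev {n : ℕ} (u : Fin n → K) : MvPolynomial (Fin n) k →ₐ[k] Polynomial K :=
  MvPolynomial.aeval fun i => Polynomial.C (u i) * Polynomial.X

theorem ev_homogeneous {n : ℕ} (u : Fin n → K) {f : MvPolynomial (Fin n) k} {d : ℕ}
    (hf : f.IsHomogeneous d) :
    ev (k := k) u f = Polynomial.C (aeval u f) * Polynomial.X ^ d := by
  have h1 := K669.MvPolyDer.aeval_smul_of_isHomogeneous (A := Polynomial K) (k := k)
    (Polynomial.X) (fun i => Polynomial.C (u i)) hf
  have h2 : (fun i => (Polynomial.X : Polynomial K) * Polynomial.C (u i)) =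
      fun i => Polynomial.C (u i) * Polynomial.X := by
    funext i; rw [mul_comm]
  rw [h2] at h1
  change aeval _ f = _
  rw [h1, mul_comm]
  congr 1
  have h3 : (aeval (fun i => Polynomial.C (u i)) f : Polynomial K) =
      (Polynomial.CAlgHom (R := k) (A := K)) (aeval u f) := by
    exact (MvPolynomial.comp_aeval_apply (f := u) (Polynomial.CAlgHom (R := k) (A := K)) f).symm
  rw [h3]
  rfl

theorem ev_eq_sum {n : ℕ} (u : Fin n → K) (f : MvPolynomial (Fin n) k) :
    ev (k := k) u f = ∑ d ∈ Finset.range (f.totalDegree + 1),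
      Polynomial.C (aeval u (homogeneousComponent d f)) * Polynomial.X ^ d := by
  conv_lhs => rw [← sum_homogeneousComponent f]
  rw [map_sum]
  exact Finset.sum_congr rfl fun d _ => ev_homogeneous u (homogeneousComponent_isHomogeneous d f)

theorem mem_ker_iff {n : ℕ} (u : Fin n → K) (f : MvPolynomial (Fin n) k) :
    ev (k := k) u f = 0 ↔ ∀ d, aeval u (homogeneousComponent d f) = 0 := by
  rw [ev_eq_sum]
  constructor
  · intro h d
    by_cases hd : d < f.totalDegree + 1
    · have := congrArg (fun q => Polynomial.coeff q d) h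
      simp only [Polynomial.finsetSum_coeff, Polynomial.coeff_C_mul, Polynomial.coeff_X_pow,
        Polynomial.coeff_zero, mul_ite, mul_one, mul_zero, Finset.sum_ite_eq, Finset.mem_range,
        if_pos hd] at this
      exact this
    · rw [homogeneousComponent_eq_zero d f (by omega), map_zero]
  · intro h
    exact Finset.sum_eq_zero fun d _ => by rw [h d, map_zero, zero_mul]

theorem mem_ker_of_homogeneous {n : ℕ} (u : Fin n → K) {f : MvPolynomial (Fin n) k} {d : ℕ}
    (hf : f.IsHomogeneous d) : ev (k := k) u f = 0 ↔ aeval u f = 0 := by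
  rw [ev_homogeneous u hf]
  constructor
  · intro h
    rcases mul_eq_zero.mp h with h | h
    · exact Polynomial.C_eq_zero.mp h
    · exact absurd h (pow_ne_zero _ Polynomial.X_ne_zero)
  · intro h
    rw [h, map_zero, zero_mul]

/-- An irreducible generator of the ideal of relations is homogeneous. -/
theorem isHomogeneous_of_dvd {n : ℕ} (u : Fin n → K) {f : MvPolynomial (Fin n) k}
    (hf0 : f ≠ 0) (hfu : ev (k := k) u f = 0)
    (hdvd : ∀ g : MvPolynomial (Fin n) k, ev (k := k) u g = 0 → f ∣ g) :
    f.IsHomogeneous f.totalDegree := by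
  set d := f.totalDegree with hd
  have hker : ev (k := k) u (homogeneousComponent d f) = 0 := by
    rw [mem_ker_of_homogeneous u (homogeneousComponent_isHomogeneous d f)]
    exact (mem_ker_iff u f).mp hfu d
  have hne : homogeneousComponent d f ≠ 0 := by
    intro h
    obtain ⟨m, hm, hmd⟩ : ∃ m ∈ f.support, m.degree = f.totalDegree := by
      have hs : f.support.Nonempty := by rwa [Finset.nonempty_iff_ne_empty, Ne, support_eq_empty]
      obtain ⟨m, hm, h2⟩ := Finset.exists_mem_eq_sup f.support hs fun m => m.degree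
      refine ⟨m, hm, ?_⟩
      rw [← h2]
      rfl
    have := congrArg (coeff m) h
    rw [coeff_homogeneousComponent, if_pos (by rw [hmd]), coeff_zero] at this
    exact (mem_support_iff.mp hm) this
  obtain ⟨h, hh⟩ := hdvd _ hker
  have hh0 : h ≠ 0 := by
    rintro rfl
    rw [mul_zero] at hh
    exact hne hh
  have hdeg : (homogeneousComponent d f).totalDegree = d :=
    (homogeneousComponent_isHomogeneous d f).totalDegree hne
  rw [hh, totalDegree_mul_of_isDomain hf0 hh0] at hdeg
  have h0 : h.totalDegree = 0 := by omega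
  obtain ⟨c, rfl⟩ : ∃ c, h = C c := ⟨_, totalDegree_eq_zero_iff_eq_C.mp h0⟩
  have hc : c ≠ 0 := by rintro rfl; exact hh0 (map_zero _)
  have hf : f = homogeneousComponent d f * C c⁻¹ := by
    rw [hh, mul_assoc, ← map_mul, mul_inv_cancel₀ hc, map_one, mul_one]
  have := (homogeneousComponent_isHomogeneous d f).mul (isHomogeneous_C (Fin n) (c⁻¹ : k))
  rw [add_zero, ← hf] at this
  exact this

/-- A homogeneous form in two variables vanishing at `(u, v)` with `v / u` transcendental is zero. -/
theorem eq_zero_of_binary {u : Fin 2 → K} (h0 : u 0 ≠ 0) (htr : Transcendental k (u 1 / u 0))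
    {p : MvPolynomial (Fin 2) k} {d : ℕ} (hp : p.IsHomogeneous d) (hpu : aeval u p = 0) :
    p = 0 := by
  -- the dehomogenized polynomial
  let q : Polynomial k := ∑ m ∈ p.support, Polynomial.monomial (m 1) (coeff m p)
  have hdeg : ∀ m ∈ p.support, m 0 + m 1 = d := by
    intro m hm
    have := hp (mem_support_iff.mp hm)
    change Finsupp.weight (fun _ => 1) m = d at this
    rw [← Finsupp.degree_eq_weight_one, Finsupp.degree_eq_sum] at this
    simpa using this
  have hinj : ∀ m ∈ p.support, ∀ m' ∈ p.support, m 1 = m' 1 → m = m' := by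
    intro m hm m' hm' h
    have h1 := hdeg m hm
    have h2 := hdeg m' hm'
    ext i
    fin_cases i
    · change m 0 = m' 0
      omega
    · exact h
  have hcoeff : ∀ m ∈ p.support, q.coeff (m 1) = coeff m p := by
    intro m hm
    simp only [q, Polynomial.finsetSum_coeff, Polynomial.coeff_monomial]
    rw [Finset.sum_eq_single m]
    · simp
    · intro m' hm' hne
      rw [if_neg]
      intro h
      exact hne (hinj m' hm' m hm h)
    · intro h
      exact absurd hm h
  have hq : Polynomial.aeval (u 1 / u 0) q = 0 := by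
    have h1 : aeval u p = ∑ m ∈ p.support, algebraMap k K (coeff m p) * (u 0 ^ m 0 * u 1 ^ m 1) := by
      rw [aeval_def, eval₂_eq]
      refine Finset.sum_congr rfl fun m _ => ?_
      congr 1
      have : ∏ i ∈ m.support, u i ^ m i = ∏ i : Fin 2, u i ^ m i := by
        apply Finset.prod_subset (Finset.subset_univ _)
        intro i _ hi
        rw [Finsupp.notMem_support_iff.mp hi, pow_zero]
      rw [this, Fin.prod_univ_two]
    have h2 : aeval u p = u 0 ^ d * Polynomial.aeval (u 1 / u 0) q := by
      rw [h1]
      simp only [q, map_sum, Polynomial.aeval_monomial, Finset.mul_sum]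
      refine Finset.sum_congr rfl fun m hm => ?_
      rw [← hdeg m hm, div_pow, pow_add]
      field_simp
    rw [hpu] at h2
    exact (mul_eq_zero.mp h2.symm).resolve_left (pow_ne_zero _ h0)
  have hq0 : q = 0 := by
    by_contra hne
    exact htr ⟨q, hne, hq⟩
  by_contra hp0
  obtain ⟨m, hm⟩ := MvPolynomial.ne_zero_iff.mp hp0
  have := hcoeff m (mem_support_iff.mpr hm)
  rw [hq0, Polynomial.coeff_zero] at this
  exact hm this.symm

theorem eq_zero_of_binary_ev {u : Fin 2 → K} (h0 : u 0 ≠ 0) (htr : Transcendental k (u 1 / u 0))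
    {p : MvPolynomial (Fin 2) k} (hpu : ev (k := k) u p = 0) : p = 0 := by
  rw [mem_ker_iff] at hpu
  rw [← sum_homogeneousComponent p]
  exact Finset.sum_eq_zero fun d _ =>
    eq_zero_of_binary h0 htr (homogeneousComponent_isHomogeneous d p) (hpu d)

/-- The transcendence degree of a function field of one variable. -/
theorem trdeg_eq_one (hK : FunFld.IsFunctionField k K) : Algebra.trdeg k K = 1 := by
  obtain ⟨⟨x, hx, hfin⟩, hcl⟩ := hK
  have hxa : AlgebraicIndependent k (fun _ : Unit => x) :=
    (algebraicIndependent_unique_type_iff (ι := Unit) (x := fun _ => x)).mpr hx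
  have hr : ∀ w : K, Set.range (fun _ : Unit => w) = {w} := fun w => by
    ext y; simp [eq_comm]
  have halg : Algebra.IsAlgebraic (IntermediateField.adjoin k ({x} : Set K)) K :=
    Algebra.IsAlgebraic.of_finite _ _
  have halg2 : Algebra.IsAlgebraic (Algebra.adjoin k (Set.range (fun _ : Unit => x))) K := by
    rw [hr]
    exact IntermediateField.isAlgebraic_adjoin_iff_top.mp halg
  have hb : IsTranscendenceBasis k (fun _ : Unit => x) :=
    isTranscendenceBasis_iff_algebraicIndependent_isAlgebraic.mpr ⟨hxa, halg2⟩
  have htr := hb.lift_cardinalMk_eq_trdeg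
  simp only [Cardinal.mk_fintype, Fintype.card_unit, Nat.cast_one, Cardinal.lift_one] at htr
  simpa using htr.symm

theorem exists_ne_zero_ev (hK : FunFld.IsFunctionField k K) (u : Fin 3 → K) :
    ∃ f : MvPolynomial (Fin 3) k, f ≠ 0 ∧ ev (k := k) u f = 0 := by
  by_contra hcon
  push Not at hcon
  have hind : AlgebraicIndependent k
      (fun i : Fin 3 => (Polynomial.C (u i) * Polynomial.X : Polynomial K)) := by
    rw [algebraicIndependent_iff]
    intro p hp
    by_contra hp0
    exact hcon p hp0 hp
  have h1 := hind.lift_cardinalMk_le_trdeg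
  have h2 : Algebra.trdeg k (Polynomial K) = 2 := by
    rw [← trdeg_add_eq k K (A := Polynomial K), trdeg_eq_one hK, Polynomial.trdeg_of_isDomain]
    norm_num
  rw [h2] at h1
  simp only [Cardinal.mk_fintype, Fintype.card_fin, Cardinal.lift_natCast, Cardinal.lift_ofNat] at h1
  norm_num at h1

/-- One of the two generators is transcendental. -/
theorem transcendental_or (hK : FunFld.IsFunctionField k K) {x y : K}
    (hxy : IntermediateField.adjoin k ({x, y} : Set K) = ⊤) :
    Transcendental k x ∨ Transcendental k y := by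
  by_contra hcon
  push Not at hcon
  obtain ⟨⟨z, hz, -⟩, -⟩ := hK
  apply hz
  have h1 : ∀ w ∈ ({x, y} : Set K), IsIntegral k w := by
    rintro w (rfl | hw)
    · exact (not_not.mp hcon.1).isIntegral
    · rw [Set.mem_singleton_iff] at hw
      subst hw
      exact (not_not.mp hcon.2).isIntegral
  have h2 := IntermediateField.isAlgebraic_adjoin h1
  have h3 : z ∈ IntermediateField.adjoin k ({x, y} : Set K) := by rw [hxy]; trivial
  have h4 := h2.isAlgebraic ⟨z, h3⟩
  exact (isAlgebraic_algebraMap_iff (R := k) (A := K)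
    (FaithfulSMul.algebraMap_injective (IntermediateField.adjoin k ({x, y} : Set K)) K)).mpr h4

theorem ev_rename {n m : ℕ} (u : Fin n → K) (g : Fin m → Fin n) (a : MvPolynomial (Fin m) k) :
    ev (k := k) u (rename g a) = ev (k := k) (u ∘ g) a := by
  change aeval _ (rename g a) = _
  rw [aeval_rename]
  rfl

/-- Every irreducible relation of a plane curve divides every relation. -/
theorem dvd_of_ev (hK : FunFld.IsFunctionField k K) {x y : K}
    (hxy : IntermediateField.adjoin k ({x, y} : Set K) = ⊤) {f g : MvPolynomial (Fin 3) k}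
    (hf : Irreducible f) (hf0 : ev (k := k) ![1, x, y] f = 0)
    (hg : ev (k := k) ![1, x, y] g = 0) : f ∣ g := by
  rcases transcendental_or hK hxy with h | h
  · refine Gauss.mv_dvd_of_ker (2 : Fin 3) (ev (k := k) ![1, x, y]).toRingHom (fun a ha => ?_)
      hf hf0 hg
    change ev (k := k) ![1, x, y] _ = 0 at ha
    rw [ev_rename] at ha
    refine eq_zero_of_binary_ev (u := ![1, x, y] ∘ (2 : Fin 3).succAbove) ?_ ?_ ha
    · exact one_ne_zero
    · change Transcendental k (x / 1)
      rwa [div_one]
  · refine Gauss.mv_dvd_of_ker (1 : Fin 3) (ev (k := k) ![1, x, y]).toRingHom (fun a ha => ?_)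
      hf hf0 hg
    change ev (k := k) ![1, x, y] _ = 0 at ha
    rw [ev_rename] at ha
    refine eq_zero_of_binary_ev (u := ![1, x, y] ∘ (1 : Fin 3).succAbove) ?_ ?_ ha
    · exact one_ne_zero
    · change Transcendental k (y / 1)
      rwa [div_one]

theorem exists_irreducible (hK : FunFld.IsFunctionField k K) (u : Fin 3 → K) :
    ∃ f : MvPolynomial (Fin 3) k, Irreducible f ∧ ev (k := k) u f = 0 := by
  obtain ⟨p, hp0, hp⟩ := exists_ne_zero_ev hK u
  have : ∀ q : MvPolynomial (Fin 3) k, q ≠ 0 → ev (k := k) u q = 0 →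
      ∃ f : MvPolynomial (Fin 3) k, Irreducible f ∧ ev (k := k) u f = 0 := by
    intro q
    induction q using UniqueFactorizationMonoid.induction_on_prime with
    | h₁ => intro h; exact absurd rfl h
    | h₂ q hq =>
      intro _ h
      exfalso
      have := hq.map (ev (k := k) u)
      rw [h] at this
      exact not_isUnit_zero this
    | h₃ a q ha hq ih =>
      intro _ h
      rw [map_mul] at h
      rcases mul_eq_zero.mp h with h | h
      · exact ⟨q, hq.irreducible, h⟩
      · exact ih ha h
  exact this p hp0 hp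

theorem main (hK : FunFld.IsFunctionField k K) (x y : K)
    (hxy : IntermediateField.adjoin k ({x, y} : Set K) = ⊤) :
    ∃ f : MvPolynomial (Fin 3) k, Irreducible f ∧ f.IsHomogeneous f.totalDegree ∧
      RingHom.ker (MvPolynomial.aeval fun i => Polynomial.C (![(1 : K), x, y] i) * Polynomial.X) =
        Ideal.span {f} := by
  obtain ⟨f, hf, hf0⟩ := exists_irreducible hK ![1, x, y]
  refine ⟨f, hf, isHomogeneous_of_dvd _ hf.ne_zero hf0 fun g hg => dvd_of_ev hK hxy hf hf0 hg, ?_⟩
  ext g
  rw [RingHom.mem_ker, Ideal.mem_span_singleton]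
  constructor
  · exact fun hg => dvd_of_ev hK hxy hf hf0 hg
  · rintro ⟨h, rfl⟩
    rw [map_mul]
    rw [show (MvPolynomial.aeval fun i => Polynomial.C (![(1 : K), x, y] i) * Polynomial.X) f = 0
      from hf0, zero_mul]

end K665.PlaneIdeal
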