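import Groth.Agent.FunFld.K665.LocRing
import Mathlib.Algebra.MvPolynomial.PDeriv
import Mathlib.RingTheory.MvPolynomial.EulerIdentity
import Mathlib.RingTheory.MvPolynomial.Homogeneous

/-! Taylor expansion of a polynomial at a place, residues. -/

set_option autoImplicit false

namespace K665.Taylor

open FunFld K666.Basic K665.LocRing MvPolynomial

variable {k K : Type*} [Field k] [Field K] [Algebra k K]

/-- residues and constants -/
theorem residue_eq_iff (P : Place k K) (z : P.O) (c : k) :
    IsLocalRing.residue P.O z = algebraMap k (IsLocalRing.ResidueField P.O) c ↔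
      P.1 ((z : K) - algebraMap k K c) < 1 := by
  have : algebraMap k (IsLocalRing.ResidueField P.O) c =
    IsLocalRing.residue P.O (algebraMap k P.O c) := rfl
  rw [this, ← sub_eq_zero, ← map_sub, IsLocalRing.residue_eq_zero_iff]
  have h2 : (P.O.valuation ((z - algebraMap k P.O c : P.O) : K) < 1) ↔
      z - algebraMap k P.O c ∈ IsLocalRing.maximalIdeal P.O := (P.O.valuation_lt_one_iff _).symm
  rw [← h2]
  have h3 : ((z - algebraMap k P.O c : P.O) : K) = (z : K) - algebraMap k K c := rfl
  rw [h3]
  exact (P.1.isEquiv_valuation_valuationSubring.lt_one_iff_lt_one).symm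

theorem algebraMap_res_injective (P : Place k K) :
    Function.Injective (algebraMap k (IsLocalRing.ResidueField P.O)) :=
  (algebraMap k (IsLocalRing.ResidueField P.O)).injective

/-- every residue is a constant over an algebraically closed field. -/
theorem exists_residue_eq [IsAlgClosed k] (hK : IsFunctionField k K) (P : Place k K) (z : P.O) :
    ∃ c : k, P.1 ((z : K) - algebraMap k K c) < 1 ∧
      IsLocalRing.residue P.O z = algebraMap k (IsLocalRing.ResidueField P.O) c := by
  obtain ⟨c, hc⟩ := exists_const hK P (z : K) z.2
  exact ⟨c, hc, (residue_eq_iff P z c).mpr hc⟩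

theorem aeval_residue_eq {σ : Type*} (P : Place k K) (a : σ → P.O) (b : σ → k)
    (hab : ∀ i, P.1 ((a i : K) - algebraMap k K (b i)) < 1) (g : MvPolynomial σ k) :
    MvPolynomial.aeval (fun i => IsLocalRing.residue P.O (a i)) g =
      algebraMap k (IsLocalRing.ResidueField P.O) (MvPolynomial.eval b g) := by
  have : (fun i => IsLocalRing.residue P.O (a i)) =
      fun i => algebraMap k (IsLocalRing.ResidueField P.O) (b i) := by
    funext i
    exact (residue_eq_iff P (a i) (b i)).mpr (hab i)
  rw [this]
  have h2 : (MvPolynomial.aeval (fun i => algebraMap k (IsLocalRing.ResidueField P.O) (b i)) :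
      MvPolynomial σ k →ₐ[k] IsLocalRing.ResidueField P.O).toRingHom =
      (algebraMap k (IsLocalRing.ResidueField P.O)).comp (MvPolynomial.eval b) := by
    apply MvPolynomial.ringHom_ext
    · intro r; simp
    · intro i; simp
  exact congrArg (fun φ : MvPolynomial σ k →+* IsLocalRing.ResidueField P.O => φ g) h2

/-- First order Taylor expansion at a place, in an abstract form: `γ ≤ 1` a bound for the
differences. -/
theorem val_sub_eval_le {σ : Type*} (P : Place k K) (γ : WithZero (Multiplicative ℤ)) (hγ : γ ≤ 1)
    (z : σ → K) (b : σ → k) (hz : ∀ i, P.1 (z i - algebraMap k K (b i)) ≤ γ)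
    (f : MvPolynomial σ k) :
    P.1 (aeval z f - algebraMap k K (eval b f)) ≤ γ := by
  induction f using MvPolynomial.induction_on with
  | C r => simp
  | add p q hp hq =>
    rw [map_add, map_add, map_add, add_sub_add_comm]
    exact (P.1.map_add _ _).trans (max_le hp hq)
  | mul_X p i hp =>
    have hzi : P.1 (z i) ≤ 1 := by
      have : z i = (z i - algebraMap k K (b i)) + algebraMap k K (b i) := by ring
      rw [this]
      exact (P.1.map_add _ _).trans (max_le ((hz i).trans hγ) (P.2.1 _))
    have e : aeval z (p * X i) - algebraMap k K (eval b (p * X i)) =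
        (aeval z p - algebraMap k K (eval b p)) * z i +
          algebraMap k K (eval b p) * (z i - algebraMap k K (b i)) := by
      simp only [map_mul, aeval_X, eval_X]; ring
    rw [e]
    refine (P.1.map_add _ _).trans (max_le ?_ ?_)
    · rw [map_mul]; exact (mul_le_mul' hp hzi).trans_eq (mul_one _)
    · rw [map_mul]; exact (mul_le_mul' (P.2.1 _) (hz i)).trans_eq (one_mul _)

theorem val_taylor_le {σ : Type*} [Fintype σ] [DecidableEq σ] (P : Place k K)
    (γ : WithZero (Multiplicative ℤ)) (hγ : γ ≤ 1)
    (z : σ → K) (b : σ → k) (hz : ∀ i, P.1 (z i - algebraMap k K (b i)) ≤ γ)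
    (f : MvPolynomial σ k) :
    P.1 (aeval z f - algebraMap k K (eval b f) -
      ∑ i, algebraMap k K (eval b (pderiv i f)) * (z i - algebraMap k K (b i))) ≤ γ * γ := by
  induction f using MvPolynomial.induction_on with
  | C r => simp
  | add p q hp hq =>
    have e : aeval z (p + q) - algebraMap k K (eval b (p + q)) -
        ∑ i, algebraMap k K (eval b (pderiv i (p + q))) * (z i - algebraMap k K (b i)) =
      (aeval z p - algebraMap k K (eval b p) -
        ∑ i, algebraMap k K (eval b (pderiv i p)) * (z i - algebraMap k K (b i))) +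
      (aeval z q - algebraMap k K (eval b q) -
        ∑ i, algebraMap k K (eval b (pderiv i q)) * (z i - algebraMap k K (b i))) := by
      simp only [map_add, add_mul, Finset.sum_add_distrib]; ring
    rw [e]
    exact (P.1.map_add _ _).trans (max_le hp hq)
  | mul_X p j hp =>
    have hs : ∑ i, algebraMap k K (eval b (pderiv i (p * X j))) * (z i - algebraMap k K (b i)) =
        algebraMap k K (b j) *
          ∑ i, algebraMap k K (eval b (pderiv i p)) * (z i - algebraMap k K (b i)) +
        algebraMap k K (eval b p) * (z j - algebraMap k K (b j)) := by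
      have : ∀ i, algebraMap k K (eval b (pderiv i (p * X j))) * (z i - algebraMap k K (b i)) =
          algebraMap k K (b j) *
            (algebraMap k K (eval b (pderiv i p)) * (z i - algebraMap k K (b i))) +
          (if i = j then algebraMap k K (eval b p) * (z j - algebraMap k K (b j)) else 0) := by
        intro i
        rw [Derivation.leibniz, pderiv_X]
        by_cases h : i = j
        · subst h
          simp only [Pi.single_eq_same, smul_eq_mul, map_add, map_mul, eval_X, map_one, if_true]
          ring
        · have h' : (Pi.single i 1 : σ → MvPolynomial σ k) j = 0 := by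
            rw [Pi.single_apply, if_neg (fun e => h e.symm)]
          simp only [h', smul_eq_mul, mul_zero, zero_add, map_mul, eval_X, if_neg h, add_zero]
          ring
      rw [Finset.sum_congr rfl fun i _ => this i, Finset.sum_add_distrib, ← Finset.mul_sum,
        Finset.sum_ite_eq' Finset.univ j, if_pos (Finset.mem_univ _)]
    have e : aeval z (p * X j) - algebraMap k K (eval b (p * X j)) -
        ∑ i, algebraMap k K (eval b (pderiv i (p * X j))) * (z i - algebraMap k K (b i)) =
      (aeval z p - algebraMap k K (eval b p)) * (z j - algebraMap k K (b j)) +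
      algebraMap k K (b j) * (aeval z p - algebraMap k K (eval b p) -
        ∑ i, algebraMap k K (eval b (pderiv i p)) * (z i - algebraMap k K (b i))) := by
      rw [hs]
      simp only [map_mul, aeval_X, eval_X]
      ring
    rw [e]
    refine (P.1.map_add _ _).trans (max_le ?_ ?_)
    · rw [map_mul]; exact mul_le_mul' (val_sub_eval_le P γ hγ z b hz p) (hz j)
    · rw [map_mul]; exact (mul_le_mul' (P.2.1 _) hp).trans_eq (one_mul _)

theorem le_exp_neg_one {x : WithZero (Multiplicative ℤ)} (h1 : x < 1) :
    x ≤ WithZero.exp (-1 : ℤ) := by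
  by_cases hx : x = 0
  · rw [hx]; exact zero_le
  · obtain ⟨n, rfl⟩ : ∃ n : ℤ, x = WithZero.exp n := ⟨WithZero.log x, (WithZero.exp_log hx).symm⟩
    rw [← WithZero.exp_zero, WithZero.exp_lt_exp] at h1
    rw [WithZero.exp_le_exp]
    omega

/-- The linear form of partial derivatives at an image point vanishes to order two. -/
theorem val_tangent_le {σ : Type*} [Fintype σ] [DecidableEq σ] (P : Place k K)
    (z : σ → K) (b : σ → k) (hz : ∀ i, P.1 (z i - algebraMap k K (b i)) < 1)
    (f : MvPolynomial σ k) (d : ℕ) (hd : f.IsHomogeneous d) (hf : aeval z f = 0) :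
    P.1 (∑ i, algebraMap k K (eval b (pderiv i f)) * z i) ≤ WithZero.exp (-2 : ℤ) := by
  have h1 : (WithZero.exp (-1 : ℤ)) ≤ 1 := by
    rw [← WithZero.exp_zero, WithZero.exp_le_exp]; norm_num
  have hz' : ∀ i, P.1 (z i - algebraMap k K (b i)) ≤ WithZero.exp (-1 : ℤ) := fun i =>
    le_exp_neg_one (hz i)
  have ht := val_taylor_le P _ h1 z b hz' f
  have hs := val_sub_eval_le P _ h1 z b hz' f
  have hb : eval b f = 0 := by
    by_contra hne
    rw [hf, zero_sub, Valuation.map_neg, Place_algebraMap P _ hne] at hs
    rw [← WithZero.exp_zero, WithZero.exp_le_exp] at hs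
    norm_num at hs
  have heuler : ∑ i, eval b (pderiv i f) * b i = 0 := by
    have := congrArg (eval b) hd.sum_X_mul_pderiv
    rw [map_sum] at this
    simp only [map_mul, eval_X, nsmul_eq_mul, hb, mul_zero, map_natCast] at this
    rw [← this]
    exact Finset.sum_congr rfl fun i _ => mul_comm _ _
  rw [hf, hb, map_zero, sub_zero, zero_sub, Valuation.map_neg] at ht
  have e : ∑ i, algebraMap k K (eval b (pderiv i f)) * z i =
      ∑ i, algebraMap k K (eval b (pderiv i f)) * (z i - algebraMap k K (b i)) := by
    simp only [mul_sub, Finset.sum_sub_distrib, ← map_mul]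
    rw [← map_sum, heuler, map_zero, sub_zero]
  rw [e]
  refine ht.trans_eq ?_
  rw [← WithZero.exp_add]
  norm_num

end K665.Taylor
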