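import Groth.Agent.FunFld.K665.Hyper
import Groth.Agent.FunFld.K665.Taylor
import Groth.Agent.FunFld.K665.PlaneIdeal
import Mathlib.RingTheory.Nakayama
import Mathlib.LinearAlgebra.Dual.Lemmas

/-! The tangent space of a projective curve at the image of a place, and nonsingularity. -/

set_option autoImplicit false

namespace K665.Tangent

open FunFld K666.Basic K665.LocRing K665.Unif K660.Places K665.PlaneIdeal MvPolynomial

section Dv

variable {k : Type*} [Field k] {σ : Type*} [Fintype σ]

/-- The derivative of a polynomial at the point `b` in the direction `v`. -/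
noncomputable def dv (b v : σ → k) : MvPolynomial σ k →ₗ[k] k :=
  ∑ i, v i • ((MvPolynomial.aeval b : MvPolynomial σ k →ₐ[k] k).toLinearMap ∘ₗ
    (pderiv i : Derivation k (MvPolynomial σ k) (MvPolynomial σ k)).toLinearMap)

theorem dv_apply (b v : σ → k) (f : MvPolynomial σ k) :
    dv b v f = ∑ i, v i * eval b (pderiv i f) := by
  unfold dv
  rw [LinearMap.sum_apply]
  rfl

theorem dv_mul (b v : σ → k) (f g : MvPolynomial σ k) :
    dv b v (f * g) = eval b f * dv b v g + eval b g * dv b v f := by
  rw [dv_apply, dv_apply, dv_apply, Finset.mul_sum, Finset.mul_sum, ← Finset.sum_add_distrib]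
  refine Finset.sum_congr rfl fun i _ => ?_
  rw [Derivation.leibniz]
  simp only [smul_eq_mul, map_add, map_mul]
  ring

theorem dv_C (b v : σ → k) (c : k) : dv b v (C c) = 0 := by
  rw [dv_apply]
  simp

theorem dv_X (b v : σ → k) (i : σ) : dv b v (X i) = v i := by
  classical
  rw [dv_apply, Finset.sum_eq_single i]
  · simp
  · intro j _ hj
    rw [pderiv_X_of_ne hj.symm]
    simp
  · intro h
    exact absurd (Finset.mem_univ i) h

theorem dv_pow_of_eq_zero (b v : σ → k) (i : σ) (hv : v i = 0) (m : ℕ) :
    dv b v (X i ^ m) = 0 := by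
  induction m with
  | zero => rw [pow_zero]; exact dv_C b v 1
  | succ m ih => rw [pow_succ, dv_mul, ih, dv_X, hv, mul_zero, mul_zero, add_zero]

end Dv

section Ideal

variable {k : Type*} [Field k] {σ : Type*} [Fintype σ] {S : Type*} [CommRing S] [Algebra k S]

theorem sub_eval_mem (I : Ideal S) (z : σ → S) (b : σ → k)
    (hz : ∀ i, z i - algebraMap k S (b i) ∈ I) (f : MvPolynomial σ k) :
    aeval z f - algebraMap k S (eval b f) ∈ I := by
  induction f using MvPolynomial.induction_on with
  | C r => simp
  | add p q hp hq =>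
    rw [map_add, map_add, map_add, add_sub_add_comm]
    exact add_mem hp hq
  | mul_X p i hp =>
    have e : aeval z (p * X i) - algebraMap k S (eval b (p * X i)) =
        z i * (aeval z p - algebraMap k S (eval b p)) +
          algebraMap k S (eval b p) * (z i - algebraMap k S (b i)) := by
      simp only [map_mul, aeval_X, eval_X]; ring
    rw [e]
    exact add_mem (I.mul_mem_left _ hp) (I.mul_mem_left _ (hz i))

theorem taylor_mem [DecidableEq σ] (I : Ideal S) (z : σ → S) (b : σ → k)
    (hz : ∀ i, z i - algebraMap k S (b i) ∈ I) (f : MvPolynomial σ k) :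
    aeval z f - algebraMap k S (eval b f) -
      ∑ i, algebraMap k S (eval b (pderiv i f)) * (z i - algebraMap k S (b i)) ∈ I • I := by
  induction f using MvPolynomial.induction_on with
  | C r => simp
  | add p q hp hq =>
    have e : aeval z (p + q) - algebraMap k S (eval b (p + q)) -
        ∑ i, algebraMap k S (eval b (pderiv i (p + q))) * (z i - algebraMap k S (b i)) =
      (aeval z p - algebraMap k S (eval b p) -
        ∑ i, algebraMap k S (eval b (pderiv i p)) * (z i - algebraMap k S (b i))) +
      (aeval z q - algebraMap k S (eval b q) -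
        ∑ i, algebraMap k S (eval b (pderiv i q)) * (z i - algebraMap k S (b i))) := by
      simp only [map_add, add_mul, Finset.sum_add_distrib]; ring
    rw [e]
    exact add_mem hp hq
  | mul_X p j hp =>
    have hs : ∑ i, algebraMap k S (eval b (pderiv i (p * X j))) * (z i - algebraMap k S (b i)) =
        algebraMap k S (b j) *
          ∑ i, algebraMap k S (eval b (pderiv i p)) * (z i - algebraMap k S (b i)) +
        algebraMap k S (eval b p) * (z j - algebraMap k S (b j)) := by
      have : ∀ i, algebraMap k S (eval b (pderiv i (p * X j))) * (z i - algebraMap k S (b i)) =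
          algebraMap k S (b j) *
            (algebraMap k S (eval b (pderiv i p)) * (z i - algebraMap k S (b i))) +
          (if i = j then algebraMap k S (eval b p) * (z j - algebraMap k S (b j)) else 0) := by
        intro i
        rw [Derivation.leibniz, pderiv_X]
        by_cases h : i = j
        · subst h
          simp only [Pi.single_eq_same, smul_eq_mul, map_add, map_mul, eval_X, map_one, if_true]
          ring
        · have h' : (Pi.single i 1 : σ → MvPolynomial σ k) j = 0 := by
            rw [Pi.single_apply, if_neg (fun e => h e.symm)]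
          simp only [h', smul_eq_mul, mul_zero, zero_add, map_mul, eval_X, if_neg h, add_zero]
          ring
      rw [Finset.sum_congr rfl fun i _ => this i, Finset.sum_add_distrib, ← Finset.mul_sum,
        Finset.sum_ite_eq' Finset.univ j, if_pos (Finset.mem_univ _)]
    have e : aeval z (p * X j) - algebraMap k S (eval b (p * X j)) -
        ∑ i, algebraMap k S (eval b (pderiv i (p * X j))) * (z i - algebraMap k S (b i)) =
      (aeval z p - algebraMap k S (eval b p)) * (z j - algebraMap k S (b j)) +
      algebraMap k S (b j) * (aeval z p - algebraMap k S (eval b p) -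
        ∑ i, algebraMap k S (eval b (pderiv i p)) * (z i - algebraMap k S (b i))) := by
      rw [hs]
      simp only [map_mul, aeval_X, eval_X]
      ring
    rw [e]
    refine add_mem ?_ ((I • I).mul_mem_left _ hp)
    exact Submodule.smul_mem_smul (sub_eval_mem I z b hz p) (hz j)

end Ideal

universe u v

variable {k : Type u} {K : Type v} [Field k] [Field K] [Algebra k K]

/-- The tangent space at the point `b`, in the chart `j`. -/
noncomputable def T {ι : Type*} [Fintype ι] (φ : ι → K) (j : ι) (b : ι → k) :
    Submodule k (ι → k) where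
  carrier := {w | w j = 0 ∧ ∀ h : MvPolynomial ι k, aeval (fun i => φ i / φ j) h = 0 →
    ∑ i, w i * eval b (pderiv i h) = 0}
  add_mem' := by
    rintro x y ⟨hx, hx'⟩ ⟨hy, hy'⟩
    refine ⟨by rw [Pi.add_apply, hx, hy, add_zero], fun h hh => ?_⟩
    simp only [Pi.add_apply, add_mul, Finset.sum_add_distrib, hx' h hh, hy' h hh, add_zero]
  zero_mem' := ⟨rfl, fun h _ => by simp⟩
  smul_mem' := by
    rintro c x ⟨hx, hx'⟩
    refine ⟨by rw [Pi.smul_apply, hx, smul_zero], fun h hh => ?_⟩
    simp only [Pi.smul_apply, smul_eq_mul, mul_assoc]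
    rw [← Finset.mul_sum, hx' h hh, mul_zero]

theorem mem_T {ι : Type*} [Fintype ι] (φ : ι → K) (j : ι) (b : ι → k) (w : ι → k) :
    w ∈ T φ j b ↔ w j = 0 ∧ ∀ h : MvPolynomial ι k, aeval (fun i => φ i / φ j) h = 0 →
    dv b w h = 0 := by
  simp only [dv_apply]
  exact Iff.rfl

variable {n : ℕ} (φ : Fin (n + 1) → K) (P : Place k K) {j : Fin (n + 1)} (hj0 : φ j ≠ 0)
  (b : Fin (n + 1) → k) (hb : ∀ i, P.1 (φ i / φ j - algebraMap k K (b i)) < 1)

include hb hj0 in
theorem b_j : b j = 1 := by
  have h1 := hb j
  rw [div_self hj0, ← map_one (algebraMap k K), ← map_sub] at h1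
  by_contra hne
  rw [Place_algebraMap P _ (sub_ne_zero.mpr (Ne.symm hne))] at h1
  exact lt_irrefl _ h1

include hb in
theorem eval_eq_zero_of {h : MvPolynomial (Fin (n + 1)) k}
    (hh : P.1 (aeval (fun i => φ i / φ j) h) < 1) : eval b h = 0 := by
  have h1 : (WithZero.exp (-1 : ℤ)) ≤ 1 := by
    rw [← WithZero.exp_zero, WithZero.exp_le_exp]; norm_num
  have h2 := Taylor.val_sub_eval_le P _ h1 (fun i => φ i / φ j) b
    (fun i => Taylor.le_exp_neg_one (hb i)) h
  by_contra hne
  have h3 : P.1 (algebraMap k K (eval b h)) < 1 := by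
    have e : algebraMap k K (eval b h) = aeval (fun i => φ i / φ j) h -
        (aeval (fun i => φ i / φ j) h - algebraMap k K (eval b h)) := by ring
    rw [e]
    exact P.1.map_sub_lt hh (h2.trans_lt val_uniformizer_lt_one)
  rw [Place_algebraMap P _ hne] at h3
  exact lt_irrefl _ h3

/-- homogeneous relations suffice -/
theorem mem_T_iff_ker (w : Fin (n + 1) → k) (hw : w j = 0) (hbj : b j = 1) (hj0 : φ j ≠ 0) :
    w ∈ T φ j b ↔ ∀ f : MvPolynomial (Fin (n + 1)) k, ev (k := k) φ f = 0 → dv b w f = 0 := by
  rw [mem_T]
  have hsc : ∀ {d : ℕ} {g : MvPolynomial (Fin (n + 1)) k}, g.IsHomogeneous d →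
      aeval φ g = φ j ^ d * aeval (fun i => φ i / φ j) g := by
    intro d g hg
    have h1 := K669.MvPolyDer.aeval_smul_of_isHomogeneous (φ j) (fun i => φ i / φ j) hg
    have h2 : (fun i => φ j * (φ i / φ j)) = φ := by
      funext i; field_simp
    rwa [h2] at h1
  constructor
  · rintro ⟨-, h⟩ f hf
    apply h
    rw [mem_ker_iff] at hf
    rw [← sum_homogeneousComponent f, map_sum]
    refine Finset.sum_eq_zero fun d _ => ?_
    have := hf d
    rw [hsc (homogeneousComponent_isHomogeneous d f)] at this
    exact (mul_eq_zero.mp this).resolve_left (pow_ne_zero _ hj0)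
  · intro h
    refine ⟨hw, fun f hf => ?_⟩
    -- the homogenization
    set D := f.totalDegree
    set H := ∑ d ∈ Finset.range (D + 1), X j ^ (D - d) * homogeneousComponent d f with hH
    have hhom : H.IsHomogeneous D := by
      apply IsHomogeneous.sum
      intro d hd
      have h1 : (X j ^ (D - d) : MvPolynomial (Fin (n + 1)) k).IsHomogeneous (D - d) := by
        have := (isHomogeneous_X k j).pow (D - d)
        rwa [one_mul] at this
      have h2 := h1.mul (homogeneousComponent_isHomogeneous d f)
      have h3 : D - d + d = D := by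
        have := Finset.mem_range.mp hd
        omega
      rwa [h3] at h2
    have hev : aeval (fun i => φ i / φ j) H = aeval (fun i => φ i / φ j) f := by
      conv_rhs => rw [← sum_homogeneousComponent f]
      rw [hH, map_sum, map_sum]
      refine Finset.sum_congr rfl fun d _ => ?_
      rw [map_mul, map_pow, aeval_X, div_self hj0, one_pow, one_mul]
    have hker : ev (k := k) φ H = 0 := by
      rw [mem_ker_of_homogeneous φ hhom, hsc hhom, hev, hf, mul_zero]
    have hdv : dv b w H = dv b w f := by
      conv_rhs => rw [← sum_homogeneousComponent f]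
      rw [hH, map_sum, map_sum]
      refine Finset.sum_congr rfl fun d _ => ?_
      rw [dv_mul, dv_pow_of_eq_zero b w j hw, mul_zero, add_zero, map_pow, eval_X, hbj, one_pow,
        one_mul]
    rw [← hdv]
    exact h H hker

include hb hj0 in
/-- Generators of the homogeneous ideal suffice. -/
theorem mem_T_iff_gen {r : ℕ} (f : Fin r → MvPolynomial (Fin (n + 1)) k)
    (hgen : Ideal.span (Set.range f) = RingHom.ker (ev (k := k) φ)) (w : Fin (n + 1) → k) :
    w ∈ T φ j b ↔ w j = 0 ∧ ∀ i, dv b w (f i) = 0 := by
  have hbj := b_j φ P hj0 b hb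
  constructor
  · intro hw
    have hwj : w j = 0 := hw.1
    rw [mem_T_iff_ker φ b w hwj hbj hj0] at hw
    refine ⟨hwj, fun i => hw (f i) ?_⟩
    have : f i ∈ RingHom.ker (ev (k := k) φ) := by
      rw [← hgen]; exact Ideal.subset_span ⟨i, rfl⟩
    exact this
  · rintro ⟨hwj, hw⟩
    rw [mem_T_iff_ker φ b w hwj hbj hj0]
    intro g hg
    have hg' : g ∈ Ideal.span (Set.range f) := by rw [hgen]; exact hg
    -- evaluation at `b` vanishes on the ideal
    have hzero : ∀ g ∈ Ideal.span (Set.range f), eval b g = 0 ∧ dv b w g = 0 := by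
      intro g hg
      induction hg using Submodule.span_induction with
      | mem x hx =>
        obtain ⟨i, rfl⟩ := hx
        refine ⟨?_, hw i⟩
        have h1 : f i ∈ RingHom.ker (ev (k := k) φ) := by
          rw [← hgen]; exact Ideal.subset_span ⟨i, rfl⟩
        have h2 : ev (k := k) φ (f i) = 0 := h1
        rw [mem_ker_iff] at h2
        have h3 : aeval (fun l => φ l / φ j) (f i) = 0 := by
          rw [← sum_homogeneousComponent (f i), map_sum]
          refine Finset.sum_eq_zero fun d _ => ?_
          have h4 := h2 d
          have h5 := K669.MvPolyDer.aeval_smul_of_isHomogeneous (φ j) (fun i => φ i / φ j)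
            (homogeneousComponent_isHomogeneous d (f i))
          have h6 : (fun i => φ j * (φ i / φ j)) = φ := by
            funext i; field_simp
          rw [h6, h4] at h5
          exact (mul_eq_zero.mp h5.symm).resolve_left (pow_ne_zero _ hj0)
        apply eval_eq_zero_of φ P b hb
        rw [h3, map_zero]
        exact zero_lt_one
      | zero => exact ⟨map_zero _, map_zero _⟩
      | add x y _ _ hx hy => exact ⟨by rw [map_add, hx.1, hy.1, add_zero],
          by rw [map_add, hx.2, hy.2, add_zero]⟩
      | smul a x _ hx =>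
        rw [smul_eq_mul]
        exact ⟨by rw [map_mul, hx.1, mul_zero], by rw [dv_mul, hx.1, hx.2, mul_zero, zero_mul,
          add_zero]⟩
    exact (hzero g hg').2

end K665.Tangent
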