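import Groth.Agent.FunFld.K665.TangentFwd

/-! If the tangent space is one-dimensional the place is nonsingular. -/

set_option autoImplicit false

namespace K665.TangentBwd

open FunFld K666.Basic K665.LocRing K665.Unif K660.Places K665.PlaneIdeal MvPolynomial K665.Tangent

universe u v

variable {k : Type u} {K : Type v} [Field k] [Field K] [Algebra k K]

/-- The functionals vanishing on the tangent space come from relations. -/
theorem exists_relation {n : ℕ} (φ : Fin (n + 1) → K) (j : Fin (n + 1))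
    (b : Fin (n + 1) → k) (θ : Module.Dual k (Fin (n + 1) → k))
    (hθ : ∀ w ∈ T φ j b, θ w = 0) :
    ∃ (h : MvPolynomial (Fin (n + 1)) k) (α : k), aeval (fun i => φ i / φ j) h = 0 ∧
      ∀ w, θ w = dv b w h + α * w j := by
  classical
  -- the functional of a relation
  let Lin : MvPolynomial (Fin (n + 1)) k →ₗ[k] Module.Dual k (Fin (n + 1) → k) :=
    { toFun := fun h => ∑ i, eval b (pderiv i h) • LinearMap.proj i
      map_add' := by
        intro p q
        simp only [map_add, add_smul, Finset.sum_add_distrib]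
      map_smul' := by
        intro c p
        rw [RingHom.id_apply, Finset.smul_sum]
        refine Finset.sum_congr rfl fun i _ => ?_
        rw [Derivation.map_smul, MvPolynomial.smul_eval, smul_smul] }
  have hLin : ∀ h w, Lin h w = dv b w h := by
    intro h w
    rw [dv_apply]
    simp only [Lin, LinearMap.coe_mk, AddHom.coe_mk, LinearMap.sum_apply, LinearMap.smul_apply,
      LinearMap.proj_apply, smul_eq_mul]
    exact Finset.sum_congr rfl fun i _ => mul_comm _ _
  let Rel : Submodule k (MvPolynomial (Fin (n + 1)) k) :=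
    LinearMap.ker (MvPolynomial.aeval (fun i => φ i / φ j) :
      MvPolynomial (Fin (n + 1)) k →ₐ[k] K).toLinearMap
  let G : Submodule k (Module.Dual k (Fin (n + 1) → k)) :=
    Rel.map Lin ⊔ Submodule.span k {LinearMap.proj j}
  have hG : ∀ w, w ∈ G.dualCoannihilator → w ∈ T φ j b := by
    intro w hw
    rw [Submodule.mem_dualCoannihilator] at hw
    rw [mem_T]
    constructor
    · exact hw (LinearMap.proj j) (Submodule.mem_sup_right (Submodule.mem_span_singleton_self _))
    · intro h hh
      rw [← hLin]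
      exact hw (Lin h) (Submodule.mem_sup_left ⟨h, hh, rfl⟩)
  have hθG : θ ∈ G := by
    rw [← Subspace.dualCoannihilator_dualAnnihilator_eq (W := G), Submodule.mem_dualAnnihilator]
    exact fun w hw => hθ w (hG w hw)
  obtain ⟨y, ⟨h, hh, rfl⟩, z, hz, rfl⟩ := Submodule.mem_sup.mp hθG
  obtain ⟨α, rfl⟩ := Submodule.mem_span_singleton.mp hz
  refine ⟨h, α, hh, fun w => ?_⟩
  rw [LinearMap.add_apply, hLin, LinearMap.smul_apply, LinearMap.proj_apply, smul_eq_mul]

theorem nonsingular_of_finrank_T [IsAlgClosed k] (hK : IsFunctionField k K) {n : ℕ}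
    (φ : Fin (n + 1) → K) (P : Place k K) {i₀ j : Fin (n + 1)} (hj0 : φ j ≠ 0)
    (hbir : IntermediateField.adjoin k (Set.range fun i => φ i / φ i₀) = ⊤)
    (hj : ∀ i, P.1 (φ i) ≤ P.1 (φ j)) (b : Fin (n + 1) → k)
    (hb : ∀ i, P.1 (φ i / φ j - algebraMap k K (b i)) < 1)
    (hT : Module.finrank k (T φ j b) = 1) :
    ∀ z : K, P.1 z ≤ 1 → z ∈ loc (chart φ j) P := by
  classical
  have hbj := b_j φ P hj0 b hb
  obtain ⟨⟨v, hv⟩, hv0, hvs⟩ := finrank_eq_one_iff'.mp hT
  have hv0' : v ≠ 0 := fun h => hv0 (Subtype.ext h)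
  obtain ⟨l₀, hl₀⟩ : ∃ l, v l ≠ 0 := by
    by_contra hcon
    push Not at hcon
    exact hv0' (funext hcon)
  set R := loc (chart (k := k) φ j) P with hR
  have hRle : ∀ r : R, P.1 (r : K) ≤ 1 := fun r => le_one_of_mem_loc (chart_le_one φ P hj) r.2
  -- coordinates as elements of the local ring
  let z : Fin (n + 1) → R := fun i => ⟨φ i / φ j, le_loc _ _ (Algebra.subset_adjoin ⟨i, rfl⟩)⟩
  have hz : ∀ i, ((z i : R) : K) = φ i / φ j := fun i => rfl
  let 𝔫 : Ideal R := Ideal.span (Set.range fun i => z i - algebraMap k R (b i))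
  have hmem : ∀ i, z i - algebraMap k R (b i) ∈ 𝔫 := fun i => Ideal.subset_span ⟨i, rfl⟩
  have hval : ∀ r ∈ 𝔫, P.1 (r : K) < 1 := by
    intro r hr
    induction hr using Submodule.span_induction with
    | mem x hx => obtain ⟨i, rfl⟩ := hx; exact hb i
    | zero => rw [ZeroMemClass.coe_zero, map_zero]; exact zero_lt_one
    | add x y _ _ hx hy => rw [AddMemClass.coe_add]; exact P.1.map_add_lt hx hy
    | smul a x _ hx =>
      rw [smul_eq_mul, MulMemClass.coe_mul, map_mul]
      exact mul_lt_one_of_nonneg_of_lt_one_right (hRle a) zero_le hx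
  have haev : ∀ h : MvPolynomial (Fin (n + 1)) k,
      ((aeval z h : R) : K) = aeval (fun i => φ i / φ j) h := by
    intro h
    have := MvPolynomial.comp_aeval_apply (f := z) R.val h
    exact this
  -- elements of small value lie in `𝔫`
  have hsmall : ∀ r : R, P.1 (r : K) < 1 → r ∈ 𝔫 := by
    rintro ⟨r, hr⟩ hr1
    obtain ⟨u, hu, w, hw, hw1, huw⟩ := hr
    obtain ⟨p, rfl⟩ := (TangentFwd.mem_chart_iff φ j u).mp hu
    have hwR : w ∈ R := le_loc _ _ hw
    have hwi : w⁻¹ ∈ R := inv_mem_loc hwR hw1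
    have hp0 : eval b p = 0 := by
      apply eval_eq_zero_of φ P b hb
      rw [← huw, map_mul, hw1, mul_one]
      exact hr1
    have h1 := sub_eval_mem 𝔫 z b hmem p
    rw [hp0, map_zero, sub_zero] at h1
    have h2 : (⟨r, ⟨_, hu, w, hw, hw1, huw⟩⟩ : R) = ⟨w⁻¹, hwi⟩ * aeval z p := by
      apply Subtype.ext
      rw [MulMemClass.coe_mul, haev]
      change r = w⁻¹ * (aeval (fun i => φ i / φ j) p : K)
      rw [← huw, mul_comm r w, ← mul_assoc, inv_mul_cancel₀ (ne_zero_of_val_one P hw1), one_mul]
    rw [h2]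
    exact 𝔫.mul_mem_left _ h1
  have hunit : ∀ r : R, P.1 (r : K) = 1 → IsUnit r := by
    intro r hr
    refine IsUnit.of_mul_eq_one ⟨(r : K)⁻¹, inv_mem_loc r.2 hr⟩ ?_
    apply Subtype.ext
    exact mul_inv_cancel₀ (ne_zero_of_val_one P hr)
  set s : R := z l₀ - algebraMap k R (b l₀) with hs
  -- each generator is a multiple of `s` modulo `𝔫²`
  have hgen : ∀ l, z l - algebraMap k R (b l) ∈ Ideal.span {s} ⊔ 𝔫 • 𝔫 := by
    intro l
    let θ : Module.Dual k (Fin (n + 1) → k) :=
      LinearMap.proj l - (v l / v l₀) • LinearMap.proj l₀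
    have hθ : ∀ w ∈ T φ j b, θ w = 0 := by
      intro w hw
      obtain ⟨c, hc⟩ := hvs ⟨w, hw⟩
      have hc' : c • v = w := congrArg Subtype.val hc
      rw [← hc']
      simp only [θ, LinearMap.sub_apply, LinearMap.smul_apply, LinearMap.proj_apply,
        Pi.smul_apply, smul_eq_mul]
      field_simp
      ring
    obtain ⟨h, α, hh, hθh⟩ := exists_relation φ j b θ hθ
    have hcoef : ∀ i, θ (Pi.single i 1) = eval b (pderiv i h) + α * (Pi.single i 1 : Fin (n + 1) → k) j := by
      intro i
      rw [hθh, dv_apply, Finset.sum_eq_single i]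
      · rw [Pi.single_eq_same, one_mul]
      · intro i' _ hi'
        rw [Pi.single_eq_of_ne hi', zero_mul]
      · intro hi; exact absurd (Finset.mem_univ i) hi
    have htay := taylor_mem 𝔫 z b hmem h
    have haz : aeval z h = 0 := by
      apply Subtype.ext
      rw [haev, hh]
      rfl
    have hb0 : eval b h = 0 := eval_eq_zero_of φ P b hb (by rw [hh, map_zero]; exact zero_lt_one)
    rw [haz, hb0, map_zero, sub_zero, zero_sub, neg_mem_iff] at htay
    have hzj : z j - algebraMap k R (b j) = 0 := by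
      rw [hbj, map_one]
      apply Subtype.ext
      change φ j / φ j - 1 = 0
      rw [div_self hj0, sub_self]
    have hsum : ∑ i, algebraMap k R (eval b (pderiv i h)) * (z i - algebraMap k R (b i)) =
        ∑ i, algebraMap k R (θ (Pi.single i 1)) * (z i - algebraMap k R (b i)) := by
      refine Finset.sum_congr rfl fun i _ => ?_
      rw [hcoef]
      by_cases hij : i = j
      · subst hij
        rw [hzj, mul_zero, mul_zero]
      · rw [Pi.single_eq_of_ne (Ne.symm hij), mul_zero, add_zero]
    have hsum2 : ∑ i, algebraMap k R (θ (Pi.single i 1)) * (z i - algebraMap k R (b i)) =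
        (z l - algebraMap k R (b l)) - algebraMap k R (v l / v l₀) * s := by
      have h1 : ∀ i, algebraMap k R (θ (Pi.single i 1)) * (z i - algebraMap k R (b i)) =
          (if i = l then z l - algebraMap k R (b l) else 0) -
          (if i = l₀ then algebraMap k R (v l / v l₀) * s else 0) := by
        intro i
        simp only [θ, LinearMap.sub_apply, LinearMap.smul_apply, LinearMap.proj_apply, smul_eq_mul,
          Pi.single_apply]
        by_cases h1 : i = l <;> by_cases h2 : i = l₀
        · subst h1; subst h2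
          simp only [if_true, mul_one, map_sub, map_one, sub_mul, one_mul, hs]
        · subst h1
          simp only [if_true, if_neg h2, if_neg (Ne.symm h2), mul_zero, sub_zero, map_one, one_mul]
        · subst h2
          simp only [if_true, if_neg h1, if_neg (Ne.symm h1), mul_one, zero_sub, map_neg, neg_mul,
            hs]
        · simp only [if_neg h1, if_neg h2, if_neg (Ne.symm h1), if_neg (Ne.symm h2), mul_zero,
            sub_zero, map_zero, zero_mul]
      rw [Finset.sum_congr rfl fun i _ => h1 i, Finset.sum_sub_distrib, Finset.sum_ite_eq',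
        Finset.sum_ite_eq', if_pos (Finset.mem_univ _), if_pos (Finset.mem_univ _)]
    rw [hsum, hsum2] at htay
    have e : z l - algebraMap k R (b l) = algebraMap k R (v l / v l₀) * s +
        ((z l - algebraMap k R (b l)) - algebraMap k R (v l / v l₀) * s) := by ring
    rw [e]
    exact add_mem (Submodule.mem_sup_left (Ideal.mul_mem_left _ _ (Ideal.mem_span_singleton_self s)))
      (Submodule.mem_sup_right htay)
  -- Nakayama
  have hFG : 𝔫.FG := ⟨Finset.univ.image fun i => z i - algebraMap k R (b i), by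
    rw [Finset.coe_image, Finset.coe_univ, Set.image_univ]⟩
  have hjac : 𝔫 ≤ Ideal.jacobson ⊥ := by
    intro x hx
    rw [Ideal.mem_jacobson_bot]
    intro y
    apply hunit
    have h1 : P.1 ((x * y : R) : K) < 1 := hval _ (𝔫.mul_mem_right y hx)
    have h2 : ((x * y + 1 : R) : K) = 1 + ((x * y : R) : K) := by
      rw [AddMemClass.coe_add, OneMemClass.coe_one, add_comm]
    rw [h2, Valuation.map_add_eq_of_lt_left, map_one]
    rw [map_one]
    exact h1
  have hnak : 𝔫 ≤ Ideal.span {s} := by
    apply Submodule.le_of_le_smul_of_le_jacobson_bot hFG hjac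
    apply Ideal.span_le.mpr
    rintro _ ⟨i, rfl⟩
    exact hgen i
  have hs1 : P.1 (s : K) < 1 := hb l₀
  -- every nonzero element of `R` is a power of `s` times a unit
  have hpow : ∀ m : ℕ, ∀ r : R, WithZero.exp (-(m : ℤ)) ≤ P.1 (r : K) →
      ∃ (i : ℕ) (y : R), P.1 (y : K) = 1 ∧ r = s ^ i * y := by
    intro m
    induction m with
    | zero =>
      intro r hr
      rw [Nat.cast_zero, neg_zero, WithZero.exp_zero] at hr
      exact ⟨0, r, le_antisymm (hRle r) hr, by rw [pow_zero, one_mul]⟩
    | succ m ih =>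
      intro r hr
      by_cases h1 : P.1 (r : K) = 1
      · exact ⟨0, r, h1, by rw [pow_zero, one_mul]⟩
      · have h2 : P.1 (r : K) < 1 := lt_of_le_of_ne (hRle r) h1
        obtain ⟨y, hy⟩ := Ideal.mem_span_singleton'.mp (hnak (hsmall r h2))
        have h3 : WithZero.exp (-(m : ℤ)) ≤ P.1 (y : K) := by
          rw [← hy, MulMemClass.coe_mul, map_mul] at hr
          have h4 : P.1 (y : K) * P.1 (s : K) ≤ P.1 (y : K) * WithZero.exp (-1 : ℤ) :=
            mul_le_mul' le_rfl (Taylor.le_exp_neg_one hs1)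
          have h5 := hr.trans h4
          have h6 : WithZero.exp (-(m : ℤ)) =
              WithZero.exp (-((m + 1 : ℕ) : ℤ)) * WithZero.exp (1 : ℤ) := by
            rw [← WithZero.exp_add]
            congr 1
            push_cast
            ring
          have h7 : P.1 (y : K) = P.1 (y : K) * WithZero.exp (-1 : ℤ) * WithZero.exp (1 : ℤ) := by
            rw [mul_assoc, ← WithZero.exp_add]
            simp
          rw [h6, h7]
          exact mul_le_mul' h5 le_rfl
        obtain ⟨i, y', hy'1, hy'⟩ := ih y h3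
        exact ⟨i + 1, y', hy'1, by rw [← hy, hy']; ring⟩
  have hpow' : ∀ r : R, (r : K) ≠ 0 → ∃ (i : ℕ) (y : R), P.1 (y : K) = 1 ∧ r = s ^ i * y := by
    intro r hr
    have hr' : P.1 (r : K) ≠ 0 := by rw [Ne, map_eq_zero]; exact hr
    apply hpow (-WithZero.log (P.1 (r : K))).toNat r
    conv_rhs => rw [← WithZero.exp_log hr']
    rw [WithZero.exp_le_exp]
    omega
  intro x hx
  by_cases hx0 : x = 0
  · rw [hx0]; exact zero_mem _
  obtain ⟨u, hu, w, hw, huw⟩ := Nonsing.chart_frac (k := k) φ hj0 hbir x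
  have hw0 : w ≠ 0 := by
    rintro rfl
    rw [div_zero] at huw
    exact hx0 huw
  have hu0 : u ≠ 0 := by
    rintro rfl
    rw [zero_div] at huw
    exact hx0 huw
  obtain ⟨a, y, hy1, hy⟩ := hpow' ⟨u, le_loc _ _ hu⟩ hu0
  obtain ⟨c, y', hy'1, hy'⟩ := hpow' ⟨w, le_loc _ _ hw⟩ hw0
  have hyu : u = (s : K) ^ a * (y : K) := congrArg Subtype.val hy
  have hyw : w = (s : K) ^ c * (y' : K) := congrArg Subtype.val hy'
  have hs0 : (s : K) ≠ 0 := by
    intro h0
    -- then all elements have value one or zero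
    obtain ⟨t, ht⟩ := P.2.2 (WithZero.exp (-1 : ℤ))
    have ht0 : t ≠ 0 := by
      rintro rfl
      rw [map_zero] at ht
      exact WithZero.exp_ne_zero ht.symm
    obtain ⟨u', hu', w', hw', huw'⟩ := Nonsing.chart_frac (k := k) φ hj0 hbir t
    have hw0' : w' ≠ 0 := by
      rintro rfl
      rw [div_zero] at huw'
      exact ht0 huw'
    have hu0' : u' ≠ 0 := by
      rintro rfl
      rw [zero_div] at huw'
      exact ht0 huw'
    have hone : ∀ x' : K, x' ≠ 0 → x' ∈ chart (k := k) φ j → P.1 x' = 1 := by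
      intro x' hx'0 hx'
      obtain ⟨a', y1, hy11, hy1'⟩ := hpow' ⟨x', le_loc _ _ hx'⟩ hx'0
      have h1 : x' = (s : K) ^ a' * (y1 : K) := congrArg Subtype.val hy1'
      rcases Nat.eq_zero_or_pos a' with h2 | h2
      · rw [h1, h2, pow_zero, one_mul, hy11]
      · exfalso
        apply hx'0
        rw [h1, h0, zero_pow h2.ne', zero_mul]
    rw [huw', map_div₀, hone u' hu0' hu', hone w' hw0' hw', div_one, ← WithZero.exp_zero,
      WithZero.exp_inj] at ht
    norm_num at ht
  have hPs0 : P.1 (s : K) ≠ 0 := by rw [Ne, map_eq_zero]; exact hs0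
  have hca : c ≤ a := by
    by_contra hlt
    push Not at hlt
    have h1 : P.1 x = P.1 (s : K) ^ a / P.1 (s : K) ^ c := by
      rw [huw, hyu, hyw, map_div₀, map_mul, map_mul, hy1, hy'1, mul_one, mul_one, map_pow, map_pow]
    have h2 : P.1 (s : K) ^ c < P.1 (s : K) ^ a :=
      pow_lt_pow_right_of_lt_one₀ (zero_lt_iff.mpr hPs0) hs1 hlt
    rw [h1, div_le_one₀ (zero_lt_iff.mpr (pow_ne_zero _ hPs0))] at hx
    exact absurd h2 (not_lt.mpr hx)
  have hxe : x = (s : K) ^ (a - c) * (y : K) * (y' : K)⁻¹ := by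
    rw [huw, hyu, hyw]
    have hy'0 : (y' : K) ≠ 0 := ne_zero_of_val_one P hy'1
    have : (s : K) ^ a = (s : K) ^ (a - c) * (s : K) ^ c := by
      rw [← pow_add, Nat.sub_add_cancel hca]
    rw [this]
    field_simp
  rw [hxe]
  exact mul_mem (mul_mem (pow_mem s.2 _) y.2) (inv_mem_loc y'.2 hy'1)

/-- The core criterion. -/
theorem isNonsingularAt_iff_finrank_T [IsAlgClosed k] (hK : IsFunctionField k K) {n : ℕ}
    (φ : Fin (n + 1) → K) (P : Place k K) {i₀ j : Fin (n + 1)} (hj0 : φ j ≠ 0)
    (hbir : IntermediateField.adjoin k (Set.range fun i => φ i / φ i₀) = ⊤)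
    (hj : ∀ i, P.1 (φ i) ≤ P.1 (φ j)) (b : Fin (n + 1) → k)
    (hb : ∀ i, P.1 (φ i / φ j - algebraMap k K (b i)) < 1) :
    IsNonsingularAt φ P ↔ Module.finrank k (T φ j b) = 1 := by
  rw [isNonsingularAt_iff φ P hj0 hj]
  exact ⟨TangentFwd.finrank_T_of_nonsingular hK φ P hj0 hj b hb,
    nonsingular_of_finrank_T hK φ P hj0 hbir hj b hb⟩

end K665.TangentBwd
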