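import Groth.Agent.FunFld.K665.Tangent

/-! At a nonsingular place the tangent space is one-dimensional. -/

set_option autoImplicit false

namespace K665.TangentFwd

open FunFld K666.Basic K665.LocRing K665.Unif K660.Places K665.PlaneIdeal MvPolynomial K665.Tangent

universe u v

variable {k : Type u} {K : Type v} [Field k] [Field K] [Algebra k K]

theorem mem_chart_iff {n : ℕ} (φ : Fin (n + 1) → K) (j : Fin (n + 1)) (z : K) :
    z ∈ chart (k := k) φ j ↔ ∃ p : MvPolynomial (Fin (n + 1)) k,
      aeval (fun i => φ i / φ j) p = z := by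
  unfold chart
  rw [Algebra.adjoin_range_eq_range_aeval]
  exact Iff.rfl

theorem finrank_T_of_nonsingular [IsAlgClosed k] (hK : IsFunctionField k K) {n : ℕ}
    (φ : Fin (n + 1) → K) (P : Place k K) {j : Fin (n + 1)} (hj0 : φ j ≠ 0)
    (hj : ∀ i, P.1 (φ i) ≤ P.1 (φ j)) (b : Fin (n + 1) → k)
    (hb : ∀ i, P.1 (φ i / φ j - algebraMap k K (b i)) < 1)
    (hns : ∀ z : K, P.1 z ≤ 1 → z ∈ loc (chart φ j) P) :
    Module.finrank k (T φ j b) = 1 := by
  have hbj := b_j φ P hj0 b hb
  have hexp1 : (WithZero.exp (-1 : ℤ)) ≤ 1 := by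
    rw [← WithZero.exp_zero, WithZero.exp_le_exp]; norm_num
  obtain ⟨t, ht⟩ := P.2.2 (WithZero.exp (-1 : ℤ))
  have ht0 : t ≠ 0 := by
    rintro rfl
    rw [map_zero] at ht
    exact WithZero.exp_ne_zero ht.symm
  have hb' : ∀ i, P.1 (φ i / φ j - algebraMap k K (b i)) ≤ WithZero.exp (-1 : ℤ) :=
    fun i => Taylor.le_exp_neg_one (hb i)
  -- the coefficients
  have hex : ∀ i, ∃ c : k, P.1 ((φ i / φ j - algebraMap k K (b i)) / t - algebraMap k K c) < 1 := by
    intro i
    apply exists_const hK P
    rw [map_div₀, ht]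
    exact div_le_one_of_le₀ (hb' i) zero_le
  choose c hc using hex
  have hcj : c j = 0 := by
    have h1 := hc j
    rw [div_self hj0, hbj, map_one, sub_self, zero_div, zero_sub, Valuation.map_neg] at h1
    by_contra hne
    rw [Place_algebraMap P _ hne] at h1
    exact lt_irrefl _ h1
  -- second order
  have hc2 : ∀ i, P.1 (φ i / φ j - algebraMap k K (b i) - algebraMap k K (c i) * t) ≤
      WithZero.exp (-2 : ℤ) := by
    intro i
    have e : φ i / φ j - algebraMap k K (b i) - algebraMap k K (c i) * t =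
        t * ((φ i / φ j - algebraMap k K (b i)) / t - algebraMap k K (c i)) := by
      field_simp
    rw [e, map_mul, ht]
    refine (mul_le_mul' le_rfl (Taylor.le_exp_neg_one (hc i))).trans_eq ?_
    rw [← WithZero.exp_add]
    norm_num
  have hexp2 : WithZero.exp (-2 : ℤ) < WithZero.exp (-1 : ℤ) := by
    rw [WithZero.exp_lt_exp]; norm_num
  -- `c ∈ T`
  have hcT : c ∈ T φ j b := by
    rw [mem_T]
    refine ⟨hcj, fun h hh => ?_⟩
    have h1 := Taylor.val_taylor_le P _ hexp1 (fun i => φ i / φ j) b hb' h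
    have hb0 : eval b h = 0 := eval_eq_zero_of φ P b hb (by rw [hh, map_zero]; exact zero_lt_one)
    rw [hh, hb0, map_zero, sub_zero, zero_sub, Valuation.map_neg, ← WithZero.exp_add] at h1
    have h2 : P.1 (algebraMap k K (dv b c h) * t) ≤ WithZero.exp (-2 : ℤ) := by
      have e : algebraMap k K (dv b c h) * t =
          ∑ i, algebraMap k K (eval b (pderiv i h)) * (φ i / φ j - algebraMap k K (b i)) -
          ∑ i, algebraMap k K (eval b (pderiv i h)) *
            (φ i / φ j - algebraMap k K (b i) - algebraMap k K (c i) * t) := by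
        rw [← Finset.sum_sub_distrib, dv_apply, map_sum, Finset.sum_mul]
        refine Finset.sum_congr rfl fun i _ => ?_
        rw [map_mul]
        ring
      rw [e]
      refine (P.1.map_sub _ _).trans (max_le ?_ ?_)
      · exact h1
      · apply P.1.map_sum_le
        intro i _
        rw [map_mul]
        exact (mul_le_mul' (P.2.1 _) (hc2 i)).trans_eq (one_mul _)
    by_contra hne
    rw [map_mul, Place_algebraMap P _ hne, one_mul, ht] at h2
    exact absurd hexp2 (not_lt.mpr h2)
  -- `c ≠ 0`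
  have hc0 : c ≠ 0 := by
    intro h0
    obtain ⟨c', hc'⟩ := Hyper.exists_form_of_uniformizer hK φ P hj0 hj t (hns t (by
      rw [ht]; exact hexp1)) ht
    have e : (∑ i, c' i • φ i) / φ j =
        ∑ i, algebraMap k K (c' i) * (φ i / φ j - algebraMap k K (b i)) +
        algebraMap k K (∑ i, c' i * b i) := by
      rw [map_sum, ← Finset.sum_add_distrib, Finset.sum_div]
      refine Finset.sum_congr rfl fun i _ => ?_
      rw [Algebra.smul_def, map_mul]
      ring
    have h1 : P.1 (∑ i, algebraMap k K (c' i) * (φ i / φ j - algebraMap k K (b i))) ≤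
        WithZero.exp (-2 : ℤ) := by
      apply P.1.map_sum_le
      intro i _
      rw [map_mul]
      refine (mul_le_mul' (P.2.1 _) ?_).trans_eq (one_mul _)
      have := hc2 i
      rwa [h0, Pi.zero_apply, map_zero, zero_mul, sub_zero] at this
    by_cases hs : ∑ i, c' i * b i = 0
    · rw [hs, map_zero, add_zero] at e
      rw [e] at hc'
      rw [hc'] at h1
      exact absurd hexp2 (not_lt.mpr h1)
    · have h2 : P.1 (algebraMap k K (∑ i, c' i * b i)) < 1 := by
        have e2 : algebraMap k K (∑ i, c' i * b i) = (∑ i, c' i • φ i) / φ j -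
            ∑ i, algebraMap k K (c' i) * (φ i / φ j - algebraMap k K (b i)) := by
          rw [e]; ring
        rw [e2]
        apply P.1.map_sub_lt
        · rw [hc']; exact val_uniformizer_lt_one
        · exact h1.trans_lt (hexp2.trans val_uniformizer_lt_one)
      rw [Place_algebraMap P _ hs] at h2
      exact lt_irrefl _ h2
  -- `t = p / w`
  obtain ⟨tu, htu, tw, htw, htw1, hteq⟩ := mem_loc_iff_div.mp (hns t (by rw [ht]; exact hexp1))
  obtain ⟨p, rfl⟩ := (mem_chart_iff φ j tu).mp htu
  obtain ⟨w, rfl⟩ := (mem_chart_iff φ j tw).mp htw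
  have hw0 : eval b w ≠ 0 := by
    intro h0
    have h2 := Taylor.val_sub_eval_le P _ hexp1 (fun i => φ i / φ j) b hb' w
    rw [h0, map_zero, sub_zero, htw1] at h2
    exact absurd val_uniformizer_lt_one (not_lt.mpr h2)
  have hwK : (aeval (fun i => φ i / φ j) w : K) ≠ 0 := ne_zero_of_val_one P htw1
  have hp0 : eval b p = 0 := by
    apply eval_eq_zero_of φ P b hb
    have : (aeval (fun i => φ i / φ j) p : K) = t * aeval (fun i => φ i / φ j) w := by
      rw [hteq, div_mul_cancel₀ _ hwK]
    rw [this, map_mul, htw1, mul_one, ht]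
    exact val_uniformizer_lt_one
  apply finrank_eq_one_iff'.mpr
  refine ⟨⟨c, hcT⟩, fun h => hc0 (congrArg Subtype.val h), ?_⟩
  rintro ⟨x, hx⟩
  refine ⟨dv b x p / eval b w, ?_⟩
  apply Subtype.ext
  funext l
  change dv b x p / eval b w * c l = x l
  -- `z_l - b_l - c_l t = t² y`
  have hy : P.1 ((φ l / φ j - algebraMap k K (b l) - algebraMap k K (c l) * t) / t ^ 2) ≤ 1 := by
    rw [map_div₀, map_pow, ht, ← WithZero.exp_nsmul]
    exact div_le_one_of_le₀ (hc2 l) zero_le
  obtain ⟨yu, hyu, yw, hyw, hyw1, hyeq⟩ := mem_loc_iff_div.mp (hns _ hy)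
  obtain ⟨q, rfl⟩ := (mem_chart_iff φ j yu).mp hyu
  obtain ⟨w', rfl⟩ := (mem_chart_iff φ j yw).mp hyw
  have hw'0 : eval b w' ≠ 0 := by
    intro h0
    have h2 := Taylor.val_sub_eval_le P _ hexp1 (fun i => φ i / φ j) b hb' w'
    rw [h0, map_zero, sub_zero, hyw1] at h2
    exact absurd val_uniformizer_lt_one (not_lt.mpr h2)
  have hw'K : (aeval (fun i => φ i / φ j) w' : K) ≠ 0 := ne_zero_of_val_one P hyw1
  have hrel : aeval (fun i => φ i / φ j)
      ((X l - C (b l)) * (w ^ 2 * w') - C (c l) * (p * (w * w')) - p ^ 2 * q) = 0 := by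
    have h1 : φ l / φ j - algebraMap k K (b l) - algebraMap k K (c l) * t =
        t ^ 2 * (aeval (fun i => φ i / φ j) q / aeval (fun i => φ i / φ j) w') := by
      rw [← hyeq]
      field_simp
    rw [hteq] at h1
    simp only [map_sub, map_mul, map_pow, aeval_X, aeval_C]
    set W := (aeval (fun i => φ i / φ j) w : K)
    set W' := (aeval (fun i => φ i / φ j) w' : K)
    set p' := (aeval (fun i => φ i / φ j) p : K)
    set q' := (aeval (fun i => φ i / φ j) q : K)
    have h2 : (φ l / φ j - algebraMap k K (b l)) * (W ^ 2 * W') -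
        algebraMap k K (c l) * (p' * (W * W')) - p' ^ 2 * q' =
        ((φ l / φ j - algebraMap k K (b l) - algebraMap k K (c l) * (p' / W)) -
          (p' / W) ^ 2 * (q' / W')) * (W ^ 2 * W') := by
      field_simp
    rw [h2, h1, sub_self, zero_mul]
  have hdv : dv b x ((X l - C (b l)) * (w ^ 2 * w') - C (c l) * (p * (w * w')) - p ^ 2 * q) = 0 :=
    ((mem_T φ j b x).mp hx).2 _ hrel
  have h3 : dv b x ((X l - C (b l)) * (w ^ 2 * w') - C (c l) * (p * (w * w')) - p ^ 2 * q) =
      eval b w ^ 2 * eval b w' * x l - c l * (eval b w * eval b w' * dv b x p) := by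
    rw [map_sub, map_sub, dv_mul, map_sub (dv b x), dv_X, dv_C, dv_mul b x (C (c l)), dv_C,
      dv_mul b x p, dv_mul b x (p ^ 2), pow_two p, dv_mul b x p p]
    simp only [map_sub, map_mul, map_pow, eval_X, eval_C, hp0]
    ring
  rw [hdv] at h3
  have h4 : eval b w * eval b w' * (eval b w * x l - c l * dv b x p) = 0 := by
    rw [mul_sub]
    linear_combination -h3
  have h5 := (mul_eq_zero.mp h4).resolve_left (mul_ne_zero hw0 hw'0)
  rw [div_mul_eq_mul_div, div_eq_iff hw0]
  linear_combination -h5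

end K665.TangentFwd
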